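import Mathlib
import Groth.Prelude.Def_W4bk4grossh111Obs
import Groth.Agent.Lib.Helper84.AffGrpSch.Basic
import Groth.Agent.Lib.Helper84.GModComod

/-!
# A dictionary for translation-invariant functions on affine group schemes (helper84)

`G` a group scheme over `Spec k` with a chosen isomorphism of group objects `e : sp k A ≅ G`,
`A` a commutative Hopf algebra.  Points of `G` with values in `B` are algebra maps `A → B`,
global functions on `G` are elements of `A`, and `AGF.IsRTransInv g f` becomes the identity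
`(id ⊗ x_g) Δ f = f ⊗ 1`.
-/

set_option autoImplicit false
universe u
open CategoryTheory MonoidalCategory CartesianMonoidalCategory MonObj GrpObj AlgebraicGeometry Opposite
open CoactBr Limits TensorProduct

namespace Groth.Agent.Lib.Helper84.Obs

variable {k : Type u} [CommRing k]
variable {G : Over (Spec (CommRingCat.of k))} [GrpObj G]
variable {A : Type u} [CommRing A] [HopfAlgebra k A] (e : sp k A ≅ G) [IsMonHom e.hom]

section Points

variable {B B' : Type u} [CommRing B] [Algebra k B] [CommRing B'] [Algebra k B']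

/-- the `B`-point of `G` given by an algebra map `A → B`. -/
noncomputable def yOf (x : A →ₐ[k] B) : sp k B ⟶ G :=
  pt x ≫ e.hom

omit [GrpObj G] [IsMonHom e.hom] in
theorem exists_yOf (y : sp k B ⟶ G) : ∃ x : A →ₐ[k] B, yOf e x = y := by
  obtain ⟨x, hx⟩ := Groth.Agent.Lib.Helper68.AffQuot.exists_pt_eq (y ≫ e.inv)
  refine ⟨x, ?_⟩
  unfold yOf
  rw [hx, Category.assoc, Iso.inv_hom_id, Category.comp_id]

omit [GrpObj G] [IsMonHom e.hom] in
theorem yOf_injective : Function.Injective (yOf e : (A →ₐ[k] B) → _) := by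
  intro x x' h
  unfold yOf at h
  exact pt_injective ((cancel_mono e.hom).1 h)

theorem yOf_mul (x x' : A →ₐ[k] B) :
    yOf e (WithConv.toConv x * WithConv.toConv x').ofConv = yOf e x * yOf e x' := by
  unfold yOf
  rw [Groth.Agent.Lib.Helper84.AffGrpSch.pt_conv_mul]
  exact MonObj.mul_comp _ _ _

theorem yOf_one :
    yOf e ((Algebra.ofId k B).comp (Bialgebra.counitAlgHom k A)) = 1 := by
  unfold yOf
  rw [← one_eq_pt]
  exact MonObj.one_comp _

omit [GrpObj G] [IsMonHom e.hom] in
theorem pt_yOf (φ : B →ₐ[k] B') (x : A →ₐ[k] B) :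
    pt φ ≫ yOf e x = yOf e (φ.comp x) := by
  unfold yOf
  rw [pt_comp, Category.assoc]

omit [GrpObj G] [IsMonHom e.hom] in
theorem ptMap_eq_pt (φ : B →ₐ[k] B') : (VecGrp.ptMap φ : sp k B' ⟶ sp k B) = pt φ := by
  apply Over.OverMorphism.ext
  rfl

end Points

section Functions

variable {B : Type u} [CommRing B] [Algebra k B]

/-- the element of `A` attached to a global function on `G`. -/
noncomputable def valOf (f : Γ(G.left, ⊤)) : A :=
  (Scheme.ΓSpecIso (CommRingCat.of A)).hom (e.hom.left.appTop f)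

/-- the global function attached to an element of `A`. -/
noncomputable def fnOf (a : A) : Γ(G.left, ⊤) :=
  e.inv.left.appTop ((Scheme.ΓSpecIso (CommRingCat.of A)).inv a)

omit [GrpObj G] [IsMonHom e.hom] in
theorem valOf_fnOf (a : A) : valOf e (fnOf e a) = a := by
  unfold valOf fnOf
  have h : e.hom.left ≫ e.inv.left = 𝟙 _ := by
    rw [← Over.comp_left, Iso.hom_inv_id]; rfl
  have h2 : e.hom.left.appTop (e.inv.left.appTop ((Scheme.ΓSpecIso (CommRingCat.of A)).inv a))
      = (Scheme.ΓSpecIso (CommRingCat.of A)).inv a := by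
    have h3 : e.inv.left.appTop ≫ e.hom.left.appTop = 𝟙 _ := by
      rw [← Scheme.Hom.comp_appTop, h]; rfl
    exact congrArg (fun m => m.hom ((Scheme.ΓSpecIso (CommRingCat.of A)).inv a)) h3
  rw [h2]
  simp

omit [GrpObj G] [IsMonHom e.hom] in
theorem fnOf_valOf (f : Γ(G.left, ⊤)) : fnOf e (valOf e f) = f := by
  unfold valOf fnOf
  have h : e.inv.left ≫ e.hom.left = 𝟙 _ := by
    rw [← Over.comp_left, Iso.inv_hom_id]; rfl
  have h2 : (Scheme.ΓSpecIso (CommRingCat.of A)).inv
      ((Scheme.ΓSpecIso (CommRingCat.of A)).hom (e.hom.left.appTop f)) = e.hom.left.appTop f := by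
    simp
  rw [h2]
  have h3 : e.hom.left.appTop ≫ e.inv.left.appTop = 𝟙 _ := by
    rw [← Scheme.Hom.comp_appTop, h]; rfl
  exact congrArg (fun m => m.hom f) h3

omit [GrpObj G] [IsMonHom e.hom] in
theorem valOf_injective : Function.Injective (valOf e : Γ(G.left, ⊤) → A) := by
  intro f f' h
  rw [← fnOf_valOf e f, ← fnOf_valOf e f', h]

omit [GrpObj G] [IsMonHom e.hom] in
/-- evaluating a function at a point. -/
theorem ev_yOf (x : A →ₐ[k] B) (f : Γ(G.left, ⊤)) :
    (Scheme.ΓSpecIso (CommRingCat.of B)).hom ((yOf e x).left.appTop f) = x (valOf e f) := by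
  unfold yOf valOf
  have h1 : (pt x ≫ e.hom).left.appTop f
      = (Spec.map (CommRingCat.ofHom x.toRingHom)).appTop (e.hom.left.appTop f) := by
    rw [Over.comp_left, Scheme.Hom.comp_appTop]
    rfl
  rw [h1]
  have h2 := Scheme.ΓSpecIso_naturality (CommRingCat.ofHom x.toRingHom)
  have h3 := congrArg (fun m => m.hom (e.hom.left.appTop f)) h2
  exact h3

end Functions

end Groth.Agent.Lib.Helper84.Obs
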