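import Mathlib
import Groth.Agent.Lib.Helper84.Obs.Dict

/-!
# Right-translation invariance on the Hopf side (helper84)
-/

set_option autoImplicit false
universe u
open CategoryTheory MonoidalCategory CartesianMonoidalCategory MonObj GrpObj AlgebraicGeometry Opposite
open CoactBr Limits TensorProduct

namespace Groth.Agent.Lib.Helper84.Obs

variable {k : Type u} [CommRing k]
variable {G : Over (Spec (CommRingCat.of k))} [GrpObj G]
variable {A : Type u} [CommRing A] [HopfAlgebra k A] (e : sp k A ≅ G) [IsMonHom e.hom]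

section Mul

variable {B : Type u} [CommRing B] [Algebra k B]

theorem yOf_mul' (x x' : A →ₐ[k] B) :
    yOf e x * yOf e x' =
      yOf e ((Algebra.TensorProduct.lift x x' fun _ _ => .all _ _).comp (Bialgebra.comulAlgHom k A)) := by
  unfold yOf
  rw [← pt_mul_pt]
  exact (MonObj.mul_comp _ _ _).symm

end Mul

section General

variable {T : Over (Spec (CommRingCat.of k))}

omit [IsMonHom e.hom] in
/-- testing right-translation invariance on a pair of points forming an isomorphism. -/
theorem isRTransInv_iff_of_isIso {Y : Over (Spec (CommRingCat.of k))} (a : Y ⟶ G) (t : Y ⟶ T)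
    [IsIso (lift a t)] (g : T ⟶ G) (f : Γ(G.left, ⊤)) :
    AGF.IsRTransInv g f ↔ (a * (t ≫ g)).left.appTop f = a.left.appTop f := by
  have h1 : a * (t ≫ g) = lift a t ≫ (G ◁ g) ≫ μ[G] := by
    rw [Hom.mul_def, ← Category.assoc]
    congr 1
    ext <;> simp
  have h2 : a = lift a t ≫ fst G T := by simp
  have hinj : Function.Injective ((lift a t).left.appTop) := by
    haveI : IsIso (lift a t).left := inferInstanceAs (IsIso ((Over.forget _).map (lift a t)))
    haveI : IsIso (lift a t).left.appTop :=
      inferInstanceAs (IsIso (Scheme.Γ.map (lift a t).left.op))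
    exact ((ConcreteCategory.isIso_iff_bijective _).1 inferInstance).1
  unfold AGF.IsRTransInv
  constructor
  · intro h
    conv_rhs => rw [h2]
    rw [h1, Over.comp_left, Over.comp_left, Scheme.Hom.comp_appTop, Scheme.Hom.comp_appTop]
    exact congrArg ((lift a t).left.appTop) h
  · intro h
    apply hinj
    conv_rhs at h => rw [h2]
    rw [h1, Over.comp_left, Over.comp_left, Scheme.Hom.comp_appTop, Scheme.Hom.comp_appTop] at h
    exact h

end General

section Hopf

variable {T : Over (Spec (CommRingCat.of k))} {B : Type u} [CommRing B] [Algebra k B]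

theorem isIso_lift_incl (A B : Type u) [CommRing A] [CommRing B] [Algebra k A] [Algebra k B] :
    IsIso (lift (pt (Algebra.TensorProduct.includeLeft : A →ₐ[k] A ⊗[k] B))
      (pt (Algebra.TensorProduct.includeRight : B →ₐ[k] A ⊗[k] B))) := by
  have h := lift_pt_pt (R := k) (Algebra.TensorProduct.includeLeft : A →ₐ[k] A ⊗[k] B)
    (Algebra.TensorProduct.includeRight : B →ₐ[k] A ⊗[k] B)
  have h2 : (Algebra.TensorProduct.lift (Algebra.TensorProduct.includeLeft : A →ₐ[k] A ⊗[k] B)
    (Algebra.TensorProduct.includeRight : B →ₐ[k] A ⊗[k] B) fun _ _ => .all _ _) = AlgHom.id k _ := by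
    ext <;> simp
  rw [h2, pt_id] at h
  let i0 : (algSpec (CommRingCat.of k)).Braided := braidedAlgSpec
  have h3 := (Functor.Monoidal.μIso (algSpec (CommRingCat.of k)) (op (.of k A)) (op (.of k B))).isIso_hom
  rw [Functor.Monoidal.μIso_hom] at h3
  have h4 : IsIso (lift (pt (Algebra.TensorProduct.includeLeft : A →ₐ[k] A ⊗[k] B))
    (pt (Algebra.TensorProduct.includeRight : B →ₐ[k] A ⊗[k] B)) ≫
      Functor.LaxMonoidal.μ (algSpec (CommRingCat.of k)) (op (.of k A)) (op (.of k B))) := by
    rw [h]; exact IsIso.id _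
  exact @IsIso.of_isIso_comp_right _ _ _ _ _ _ _ h3 h4

theorem map_id_eq_lTensor (x : A →ₐ[k] B) (z : A ⊗[k] A) :
    Algebra.TensorProduct.map (AlgHom.id k A) x z = LinearMap.lTensor A x.toLinearMap z := by
  induction z using TensorProduct.induction_on with
  | zero => simp
  | tmul a b => simp
  | add a b ha hb => simp only [map_add, ha, hb]

/-- **right-translation invariance under a point with affine source, on the Hopf side.** -/
theorem isRTransInv_iff (eT : sp k B ≅ T) (g : T ⟶ G) (x : A →ₐ[k] B)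
    (hx : yOf e x = eT.hom ≫ g) (f : Γ(G.left, ⊤)) :
    AGF.IsRTransInv g f ↔
      LinearMap.lTensor A x.toLinearMap (CoalgebraStruct.comul (R := k) (valOf e f))
        = valOf e f ⊗ₜ[k] (1 : B) := by
  let a : sp k (A ⊗[k] B) ⟶ G := yOf e Algebra.TensorProduct.includeLeft
  let t : sp k (A ⊗[k] B) ⟶ T := pt Algebra.TensorProduct.includeRight ≫ eT.hom
  haveI : IsIso (lift a t) := by
    have h0 : lift a t = lift (pt (Algebra.TensorProduct.includeLeft : A →ₐ[k] A ⊗[k] B))
        (pt (Algebra.TensorProduct.includeRight : B →ₐ[k] A ⊗[k] B)) ≫ (e.hom ⊗ₘ eT.hom) := by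
      ext <;> simp [a, t, yOf]
    rw [h0]
    have h5 : IsIso (e.hom ⊗ₘ eT.hom) := (tensorIso e eT).isIso_hom
    exact @IsIso.comp_isIso _ _ _ _ _ _ _ (isIso_lift_incl (k := k) A B) h5
  rw [isRTransInv_iff_of_isIso a t g f]
  have h1 : t ≫ g = yOf e ((Algebra.TensorProduct.includeRight : B →ₐ[k] A ⊗[k] B).comp x) := by
    rw [show t = pt (Algebra.TensorProduct.includeRight : B →ₐ[k] A ⊗[k] B) ≫ eT.hom from rfl,
      Category.assoc, ← hx, pt_yOf]
  rw [h1, yOf_mul']
  have hinj : Function.Injective (Scheme.ΓSpecIso (CommRingCat.of (A ⊗[k] B))).hom :=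
    ((ConcreteCategory.isIso_iff_bijective _).1 inferInstance).1
  have h2 : (Algebra.TensorProduct.lift (Algebra.TensorProduct.includeLeft : A →ₐ[k] A ⊗[k] B)
      ((Algebra.TensorProduct.includeRight : B →ₐ[k] A ⊗[k] B).comp x) fun _ _ => .all _ _)
      = Algebra.TensorProduct.map (AlgHom.id k A) x := by
    ext <;> simp
  rw [h2]
  refine Iff.trans (hinj.eq_iff).symm ?_
  rw [ev_yOf, show a = yOf e Algebra.TensorProduct.includeLeft from rfl, ev_yOf, AlgHom.comp_apply,
    ← map_id_eq_lTensor]
  rfl

end Hopf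

end Groth.Agent.Lib.Helper84.Obs
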