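import Mathlib
import Groth.Agent.Lib.Helper84.Obs.Trans
import Groth.Agent.Lib.Helper43.GaGm

/-!
# Characters of an affine group from group-like elements (helper84)
-/

set_option autoImplicit false
set_option linter.unusedSectionVars false
universe u
open CategoryTheory MonoidalCategory CartesianMonoidalCategory MonObj GrpObj AlgebraicGeometry Opposite
open CoactBr Limits TensorProduct

namespace Groth.Agent.Lib.Helper84.Obs

open Groth.Agent.Lib.Helper43

section

variable {k : Type u} [CommRing k]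
variable {H : Over (Spec (CommRingCat.of k))} [GrpObj H]
variable {C : Type u} [CommRing C] [HopfAlgebra k C] (eH : sp k C ≅ H) [IsMonHom eH.hom]

/-- `fnOf` as a ring homomorphism. -/
noncomputable def fnOfHom : C →+* Γ(H.left, ⊤) :=
  (eH.inv.left.appTop.hom).comp (Scheme.ΓSpecIso (CommRingCat.of C)).inv.hom

theorem fnOfHom_apply (c : C) : fnOfHom eH c = fnOf eH c := rfl

theorem isIso_lift_yOf :
    IsIso (lift (yOf eH (Algebra.TensorProduct.includeLeft : C →ₐ[k] C ⊗[k] C))
      (yOf eH (Algebra.TensorProduct.includeRight : C →ₐ[k] C ⊗[k] C))) := by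
  have h0 : lift (yOf eH (Algebra.TensorProduct.includeLeft : C →ₐ[k] C ⊗[k] C))
      (yOf eH (Algebra.TensorProduct.includeRight : C →ₐ[k] C ⊗[k] C))
      = lift (pt (Algebra.TensorProduct.includeLeft : C →ₐ[k] C ⊗[k] C))
        (pt (Algebra.TensorProduct.includeRight : C →ₐ[k] C ⊗[k] C)) ≫ (eH.hom ⊗ₘ eH.hom) := by
    ext <;> simp [yOf]
  rw [h0]
  have h5 : IsIso (eH.hom ⊗ₘ eH.hom) := (tensorIso eH eH).isIso_hom
  exact @IsIso.comp_isIso _ _ _ _ _ _ _ (isIso_lift_incl (k := k) C C) h5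

/-- a group-like element is a group-like function: `f(xy) = f(x) f(y)` on `H × H`. -/
theorem mul_appTop_of_groupLike (b : C) (hb : IsGroupLikeElem k b) :
    (fst H H * snd H H).left.appTop (fnOf eH b)
      = (fst H H).left.appTop (fnOf eH b) * (snd H H).left.appTop (fnOf eH b) := by
  let a := yOf eH (Algebra.TensorProduct.includeLeft : C →ₐ[k] C ⊗[k] C)
  let t := yOf eH (Algebra.TensorProduct.includeRight : C →ₐ[k] C ⊗[k] C)
  haveI : IsIso (lift a t) := isIso_lift_yOf eH
  have hinj : Function.Injective ((lift a t).left.appTop) := by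
    haveI : IsIso (lift a t).left := inferInstanceAs (IsIso ((Over.forget _).map (lift a t)))
    haveI : IsIso (lift a t).left.appTop :=
      inferInstanceAs (IsIso (Scheme.Γ.map (lift a t).left.op))
    exact ((ConcreteCategory.isIso_iff_bijective _).1 inferInstance).1
  have hinj2 : Function.Injective (Scheme.ΓSpecIso (CommRingCat.of (C ⊗[k] C))).hom :=
    ((ConcreteCategory.isIso_iff_bijective _).1 inferInstance).1
  apply hinj
  have e1 : (lift a t).left.appTop ((fst H H * snd H H).left.appTop (fnOf eH b))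
      = (a * t).left.appTop (fnOf eH b) := by
    have : a * t = lift a t ≫ (fst H H * snd H H) := by
      rw [MonObj.comp_mul, lift_fst, lift_snd]
    rw [this, Over.comp_left, Scheme.Hom.comp_appTop]
    rfl
  have e2 : (lift a t).left.appTop ((fst H H).left.appTop (fnOf eH b)) = a.left.appTop (fnOf eH b) := by
    have : a = lift a t ≫ fst H H := by simp
    conv_rhs => rw [this]
    rw [Over.comp_left, Scheme.Hom.comp_appTop]
    rfl
  have e3 : (lift a t).left.appTop ((snd H H).left.appTop (fnOf eH b)) = t.left.appTop (fnOf eH b) := by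
    have : t = lift a t ≫ snd H H := by simp
    conv_rhs => rw [this]
    rw [Over.comp_left, Scheme.Hom.comp_appTop]
    rfl
  rw [e1, map_mul, e2, e3]
  have h2 : (Algebra.TensorProduct.lift (Algebra.TensorProduct.includeLeft : C →ₐ[k] C ⊗[k] C)
    (Algebra.TensorProduct.includeRight : C →ₐ[k] C ⊗[k] C) fun _ _ => .all _ _) = AlgHom.id k _ := by
    ext <;> simp
  have key : (Scheme.ΓSpecIso (CommRingCat.of (C ⊗[k] C))).hom ((a * t).left.appTop (fnOf eH b))
      = (Scheme.ΓSpecIso (CommRingCat.of (C ⊗[k] C))).hom (a.left.appTop (fnOf eH b))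
        * (Scheme.ΓSpecIso (CommRingCat.of (C ⊗[k] C))).hom (t.left.appTop (fnOf eH b)) := by
    rw [show a * t = yOf eH _ from yOf_mul' eH _ _, ev_yOf, ev_yOf, ev_yOf, valOf_fnOf, h2]
    show CoalgebraStruct.comul (R := k) b = _
    rw [hb.comul_eq_tmul_self]
    simp
  exact hinj2 (key.trans (map_mul _ _ _).symm)

/-- **the character of a group-like element.** -/
theorem exists_char (χ : C) (hχ : IsGroupLikeElem k χ) :
    ∃ c : H ⟶ Red.Gm (Spec (CommRingCat.of k)), IsMonHom c ∧ Red.gmFn c = fnOf eH χ := by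
  have hu : IsUnit (fnOf eH χ) := hχ.isUnit.map (fnOfHom eH)
  obtain ⟨c, hc⟩ := gmFn_surjective (S := Spec (CommRingCat.of k)) (X := H) hu.unit
  have hc' : Red.gmFn c = fnOf eH χ := hc
  have hmul : (fst H H * snd H H) ≫ c = (fst H H ≫ c) * (snd H H ≫ c) := by
    apply gmFn_injective
    rw [gmFn_comp, gmFn_mul, gmFn_comp, gmFn_comp, hc']
    exact mul_appTop_of_groupLike eH χ hχ
  have hmul' : ∀ {X : Over (Spec (CommRingCat.of k))} (a b : X ⟶ H),
      (a * b) ≫ c = (a ≫ c) * (b ≫ c) := by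
    intro X a b
    have h1 : a * b = lift a b ≫ (fst H H * snd H H) := by
      rw [MonObj.comp_mul, lift_fst, lift_snd]
    rw [h1, Category.assoc, hmul, MonObj.comp_mul, ← Category.assoc, ← Category.assoc, lift_fst, lift_snd]
  refine ⟨c, ⟨?_, ?_⟩, hc'⟩
  · -- one_hom
    have h1 : (η : 𝟙_ (Over (Spec (CommRingCat.of k))) ⟶ H) = 1 := by
      rw [Hom.one_def]; simp
    have h2 : (η : 𝟙_ (Over (Spec (CommRingCat.of k))) ⟶ Red.Gm (Spec (CommRingCat.of k))) = 1 := by
      rw [Hom.one_def]; simp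
    rw [h1, h2]
    have h3 := hmul' (1 : 𝟙_ (Over (Spec (CommRingCat.of k))) ⟶ H) 1
    rw [_root_.mul_one] at h3
    have h4 : ((1 : 𝟙_ (Over (Spec (CommRingCat.of k))) ⟶ H) ≫ c)⁻¹ * ((1 : 𝟙_ _ ⟶ H) ≫ c)
        = ((1 : 𝟙_ (Over (Spec (CommRingCat.of k))) ⟶ H) ≫ c)⁻¹ *
          (((1 : 𝟙_ _ ⟶ H) ≫ c) * ((1 : 𝟙_ _ ⟶ H) ≫ c)) := congrArg _ h3
    rw [inv_mul_cancel_left, inv_mul_cancel] at h4
    exact h4.symm
  · -- mul_hom
    have h : (μ : Red.Gm (Spec (CommRingCat.of k)) ⊗ Red.Gm (Spec (CommRingCat.of k)) ⟶ _)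
        = fst _ _ * snd _ _ := by
      rw [Hom.mul_def]; simp
    have h' : (μ : H ⊗ H ⟶ H) = fst _ _ * snd _ _ := by
      rw [Hom.mul_def]; simp
    rw [h, h', hmul, MonObj.comp_mul]
    simp only [tensorHom_fst, tensorHom_snd]

theorem eq_one_of_char_eq_one (χ : C) (c : H ⟶ Red.Gm (Spec (CommRingCat.of k)))
    (hc : Red.gmFn c = fnOf eH χ) (h1 : c = 1) : χ = 1 := by
  rw [h1, gmFn_one] at hc
  have h2 : valOf eH (fnOf eH χ) = valOf eH (1 : Γ(H.left, ⊤)) := by rw [← hc]
  rw [valOf_fnOf] at h2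
  rw [h2]
  unfold valOf
  rw [map_one]
  exact map_one (Scheme.ΓSpecIso (CommRingCat.of C)).hom.hom

end

end Groth.Agent.Lib.Helper84.Obs
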