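import Mathlib
import Groth.Agent.Lib.Helper84.Obs.Trans
import Groth.Agent.Lib.Helper54.Reduced

/-!
# The standing setup for closed subgroups of affine groups (helper84)
-/

set_option autoImplicit false
universe u
open CategoryTheory MonoidalCategory CartesianMonoidalCategory MonObj GrpObj AlgebraicGeometry Opposite
open CoactBr Limits TensorProduct

namespace Groth.Agent.Lib.Helper84.Obs

open Groth.Agent.Lib.Helper84.AffGrpSch

theorem surjective_of_isClosedImmersion_SpecMap' {R S : CommRingCat.{u}} (f : R ⟶ S)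
    [IsClosedImmersion (Spec.map f)] : Function.Surjective f.hom := by
  have h := (IsClosedImmersion.isAffine_surjective_of_isAffine (Spec.map f)).2
  have e : f = (Scheme.ΓSpecIso R).inv ≫ (Spec.map f).appTop ≫ (Scheme.ΓSpecIso S).hom := by
    rw [Scheme.ΓSpecIso_naturality, Iso.inv_hom_id_assoc]
  rw [e]
  simp only [CommRingCat.hom_comp, RingHom.coe_comp]
  exact ((ConcreteCategory.bijective_of_isIso (Scheme.ΓSpecIso S).hom).2.comp h).comp
    (ConcreteCategory.bijective_of_isIso (Scheme.ΓSpecIso R).inv).2

variable (k : Type u) [Field k]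

/-- the Hopf-algebra data of a closed subgroup of an affine group. -/
theorem exists_setup (G H : Over (Spec (CommRingCat.of k))) [GrpObj G] [GrpObj H] [IsAffine G.left]
    (i : H ⟶ G) [IsMonHom i] [IsClosedImmersion i.left] :
    ∃ (A : Type u) (_ : CommRing A) (_ : HopfAlgebra k A) (e : sp k A ≅ G) (_ : IsMonHom e.hom)
      (C : Type u) (_ : CommRing C) (_ : HopfAlgebra k C) (eH : sp k C ≅ H) (_ : IsMonHom eH.hom)
      (π : A →ₐc[k] C), yOf e (π : A →ₐ[k] C) = eH.hom ≫ i ∧ Function.Surjective π := by
  haveI : IsAffine H.left := isAffine_of_isAffineHom i.left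
  obtain ⟨A, _, _, eG, heG⟩ := exists_hopf_iso G
  obtain ⟨C, _, _, eN, heN⟩ := exists_hopf_iso H
  let f : sp k C ⟶ sp k A := eN.hom ≫ i ≫ eG.inv
  haveI : IsMonHom f := inferInstance
  obtain ⟨φ, hφ⟩ := exists_bialgHom_of_isMonHom f
  have hfi : f ≫ eG.hom = eN.hom ≫ i := by
    simp only [f, Category.assoc, Iso.inv_hom_id, Category.comp_id]
  have hφs : Function.Surjective φ := by
    have h1 : IsClosedImmersion f.left := by
      simp only [f, Over.comp_left]
      infer_instance
    have h2 : f.left = Spec.map (CommRingCat.ofHom (φ : A →ₐ[k] C).toRingHom) := by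
      rw [← hφ]
      rfl
    rw [h2] at h1
    exact @surjective_of_isClosedImmersion_SpecMap' _ _
      (CommRingCat.ofHom (φ : A →ₐ[k] C).toRingHom) h1
  refine ⟨A, _, _, eG, heG, C, _, _, eN, heN, φ, ?_, hφs⟩
  unfold yOf
  rw [hφ]
  exact hfi

variable {k}

theorem finiteType_of_loft {G : Over (Spec (CommRingCat.of k))} [LocallyOfFiniteType G.hom]
    {A : Type u} [CommRing A] [Algebra k A] (e : sp k A ≅ G) : Algebra.FiniteType k A := by
  have h1 : LocallyOfFiniteType (sp k A).hom := by
    have : (sp k A).hom = e.hom.left ≫ G.hom := (Over.w e.hom).symm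
    rw [this]
    infer_instance
  have h2 : LocallyOfFiniteType (Spec.map (CommRingCat.ofHom (algebraMap k A))) := h1
  rw [HasRingHomProperty.Spec_iff (P := @LocallyOfFiniteType)] at h2
  exact RingHom.finiteType_algebraMap.1 h2

theorem isReduced_of_smooth {G : Over (Spec (CommRingCat.of k))} [Smooth G.hom]
    {A : Type u} [CommRing A] [Algebra k A] (e : sp k A ≅ G) : IsReduced A := by
  have h0 : Smooth (sp k A).hom := by
    have : (sp k A).hom = e.hom.left ≫ G.hom := (Over.w e.hom).symm
    rw [this]
    haveI : IsIso e.hom.left := inferInstanceAs (IsIso ((Over.forget _).map e.hom))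
    infer_instance
  have h1 : AlgebraicGeometry.IsReduced (Spec (CommRingCat.of A)) :=
    @Groth.Agent.Lib.Helper54.isReduced_of_smooth_scheme _ _ (sp k A).hom h0 _
  exact (AlgebraicGeometry.affine_isReduced_iff (CommRingCat.of A)).1 h1

end Groth.Agent.Lib.Helper84.Obs
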