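import Mathlib
import Groth.Prelude.Def_HopfRep
import Groth.Agent.H40.Coeff

/-!
# Observable hulls on the Hopf side (helper84)

`A` a commutative Hopf algebra over a field `k`, `π : A → C` an algebra map (a "subgroup").
An element `m` of a comodule `M` is *fixed by `π`* when `(id ⊗ π) ρ(m) = m ⊗ 1`.
-/

set_option autoImplicit false
set_option linter.unusedSectionVars false
universe u v w w'
open TensorProduct

namespace Groth.Agent.Lib.Helper84.Obs

open Groth.Agent.H40

section Defs

variable {k : Type u} [Field k] {A : Type v} [CommRing A] [HopfAlgebra k A]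
  {C : Type w} [CommRing C] [Algebra k C]
  {M : Type w'} [AddCommGroup M] [Module k M] [HopfRep.Comod k A M]

/-- `m` is fixed by the "subgroup" `π`. -/
def IsFix (π : A →ₐ[k] C) (m : M) : Prop :=
  LinearMap.lTensor M π.toLinearMap (HopfRep.Comod.coact (k := k) (A := A) m) = m ⊗ₜ[k] (1 : C)

/-- `a ∈ A` is invariant under right translation by `π`. -/
def IsRInv (π : A →ₐ[k] C) (a : A) : Prop :=
  LinearMap.lTensor A π.toLinearMap (CoalgebraStruct.comul (R := k) a) = a ⊗ₜ[k] (1 : C)

theorem isRInv_iff_isFix (π : A →ₐ[k] C) (a : A) : IsRInv π a ↔ IsFix (M := A) π a := Iff.rfl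

theorem rid_lTensor_apply (x : A →ₗ[k] k) (ψ : M →ₗ[k] k) (t : M ⊗[k] A) :
    ψ (TensorProduct.rid k M (LinearMap.lTensor M x t)) = x (lslice ψ t) := by
  induction t using TensorProduct.induction_on with
  | zero => simp
  | tmul m a => simp [mul_comm]
  | add a b ha hb => simp only [map_add, ha, hb]

/-- a point fixes `m` iff it has the expected values on all matrix coefficients. -/
theorem isFix_iff_coeff (x : A →ₐ[k] k) (m : M) :
    IsFix x m ↔ ∀ ψ : M →ₗ[k] k, x (coeffMap (C := A) ψ m) = ψ m := by
  unfold IsFix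
  have h1 : LinearMap.lTensor M x.toLinearMap (HopfRep.Comod.coact (k := k) (A := A) m)
      = m ⊗ₜ[k] (1 : k) ↔
      TensorProduct.rid k M
        (LinearMap.lTensor M x.toLinearMap (HopfRep.Comod.coact (k := k) (A := A) m)) = m := by
    rw [← (TensorProduct.rid k M).injective.eq_iff]
    simp
  rw [h1]
  constructor
  · intro h ψ
    have := rid_lTensor_apply x.toLinearMap ψ (HopfRep.Comod.coact (k := k) (A := A) m)
    rw [h] at this
    rw [coeffMap_apply]
    exact this.symm
  · intro h
    rw [← sub_eq_zero, ← Module.forall_dual_apply_eq_zero_iff k]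
    intro ψ
    rw [map_sub, sub_eq_zero]
    have := rid_lTensor_apply x.toLinearMap ψ (HopfRep.Comod.coact (k := k) (A := A) m)
    rw [this, ← coeffMap_apply]
    exact h ψ

theorem coeffMap_counit (a : A) :
    coeffMap (C := A) (V := A) (CoalgebraStruct.counit (R := k) (A := A)) a = a := by
  rw [coeffMap_apply]
  have := LinearMap.congr_fun (Coalgebra.rTensor_counit_comp_comul (R := k) (A := A)) a
  simp only [LinearMap.comp_apply] at this
  show lslice _ (CoalgebraStruct.comul (R := k) a) = a
  unfold lslice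
  rw [LinearMap.comp_apply, this]
  simp

theorem counit_of_isRInv (x : A →ₐ[k] k) (a : A) (h : IsRInv x a) :
    x a = CoalgebraStruct.counit (R := k) a := by
  have := (isFix_iff_coeff (M := A) x a).1 h (CoalgebraStruct.counit (R := k) (A := A))
  rwa [coeffMap_counit] at this

/-- matrix coefficients of a fixed vector are invariant functions. -/
theorem isRInv_coeffMap (π : A →ₐ[k] C) (m : M) (hm : IsFix π m) (ψ : M →ₗ[k] k) :
    IsRInv π (coeffMap (C := A) ψ m) := by
  unfold IsRInv
  have h1 := LinearMap.congr_fun (isComodHom_coeffMap (C := A) (V := M) ψ) m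
  simp only [LinearMap.comp_apply] at h1
  have h2 : CoalgebraStruct.comul (R := k) (coeffMap (C := A) ψ m)
      = LinearMap.rTensor A (coeffMap (C := A) ψ) (HopfRep.Comod.coact (k := k) (A := A) m) := h1
  rw [h2, ← LinearMap.comp_apply, LinearMap.lTensor_comp_rTensor, ← LinearMap.rTensor_comp_lTensor,
    LinearMap.comp_apply]
  unfold IsFix at hm
  rw [hm]
  simp

theorem counit_coeffMap (ψ : M →ₗ[k] k) (m : M) :
    CoalgebraStruct.counit (R := k) (coeffMap (C := A) ψ m) = ψ m := by
  rw [coeffMap_apply, ← rid_lTensor_apply]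
  have := LinearMap.congr_fun (HopfRep.Comod.counit_comp (k := k) (A := A) (V := M)) m
  simp only [LinearMap.comp_apply, LinearMap.flip_apply, TensorProduct.mk_apply] at this
  rw [this]
  simp

/-- **a point of the observable hull fixes every vector fixed by the subgroup.** -/
theorem isFix_of_hull (π : A →ₐ[k] C) (x : A →ₐ[k] k)
    (hx : ∀ a : A, IsRInv π a → IsRInv x a) (m : M) (hm : IsFix π m) : IsFix x m := by
  rw [isFix_iff_coeff]
  intro ψ
  rw [counit_of_isRInv x _ (hx _ (isRInv_coeffMap π m hm ψ)), counit_coeffMap]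

/-- **finitely many invariant functions cut out the observable hull.** -/
theorem exists_finset_hull [IsNoetherianRing A] (π : A →ₐ[k] C) :
    ∃ s : Finset A, (∀ a ∈ s, IsRInv π a) ∧
      ∀ x : A →ₐ[k] k, (∀ a ∈ s, IsRInv x a) → ∀ a, IsRInv π a → IsRInv x a := by
  classical
  let S : Set A := {z | ∃ a, IsRInv π a ∧ ∃ ψ : A →ₗ[k] k,
    z = coeffMap (C := A) (V := A) ψ a - algebraMap k A (ψ a)}
  have hfg : (Ideal.span S).FG := IsNoetherian.noetherian _
  obtain ⟨S', hS'S, hspan⟩ := (Submodule.fg_span_iff_fg_span_finset_subset S).1 hfg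
  have hex : ∀ z : A, ∃ a : A, z ∈ S → (IsRInv π a ∧ ∃ ψ : A →ₗ[k] k,
      z = coeffMap (C := A) (V := A) ψ a - algebraMap k A (ψ a)) := by
    intro z
    by_cases hz : z ∈ S
    · obtain ⟨a, ha⟩ := hz
      exact ⟨a, fun _ => ha⟩
    · exact ⟨0, fun h => absurd h hz⟩
  choose c hc using hex
  refine ⟨S'.image c, ?_, ?_⟩
  · intro a ha
    obtain ⟨z, hz, rfl⟩ := Finset.mem_image.1 ha
    exact (hc z (hS'S hz)).1
  · intro x hx a ha
    rw [isRInv_iff_isFix, isFix_iff_coeff]
    intro ψ
    have hker : Ideal.span S ≤ RingHom.ker (x : A →+* k) := by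
      show Submodule.span A S ≤ _
      rw [hspan, Submodule.span_le]
      intro z hz
      obtain ⟨h1, ψ', h2⟩ := hc z (hS'S hz)
      have h3 := (isFix_iff_coeff (M := A) x (c z)).1
        ((isRInv_iff_isFix x _).1 (hx _ (Finset.mem_image_of_mem c hz))) ψ'
      rw [SetLike.mem_coe, RingHom.mem_ker]
      show x z = 0
      rw [h2, map_sub, h3]
      simp
    have hz : coeffMap (C := A) (V := A) ψ a - algebraMap k A (ψ a) ∈ Ideal.span S :=
      Ideal.subset_span ⟨a, ha, ψ, rfl⟩
    have h4 := hker hz
    rw [RingHom.mem_ker] at h4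
    have h5 : x (coeffMap (C := A) (V := A) ψ a - algebraMap k A (ψ a)) = 0 := h4
    rw [map_sub, sub_eq_zero] at h5
    rw [h5]
    simp

end Defs

end Groth.Agent.Lib.Helper84.Obs
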