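import Mathlib
import Groth.Agent.Lib.Helper84.Obs.Char

/-!
# Reading off the comultiplication from functions on `H × H` (helper84)

* `comul_eq_of_mul_appTop` : if `b(xy) = ∑ pᵢ(x) qᵢ(y)` on `H × H` then `Δ b = ∑ pᵢ ⊗ qᵢ`.
* `isGroupLikeElem_of_mul_appTop` : a unit-valued multiplicative function is group-like.
-/

set_option autoImplicit false
set_option linter.unusedSectionVars false
universe u
open CategoryTheory MonoidalCategory CartesianMonoidalCategory MonObj GrpObj AlgebraicGeometry Opposite
open CoactBr Limits TensorProduct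

namespace Groth.Agent.Lib.Helper84.Obs

open Groth.Agent.Lib.Helper43

section

variable {k : Type u} [CommRing k]
variable {H : Over (Spec (CommRingCat.of k))} [GrpObj H]
variable {C : Type u} [CommRing C] [HopfAlgebra k C] (eH : sp k C ≅ H) [IsMonHom eH.hom]

theorem comul_eq_of_mul_appTop (b : C) {J : Type*} (s : Finset J) (p q : J → C)
    (hb : (fst H H * snd H H).left.appTop (fnOf eH b)
      = ∑ i ∈ s, (fst H H).left.appTop (fnOf eH (p i)) * (snd H H).left.appTop (fnOf eH (q i))) :
    CoalgebraStruct.comul (R := k) b = ∑ i ∈ s, p i ⊗ₜ[k] q i := by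
  let a := yOf eH (Algebra.TensorProduct.includeLeft : C →ₐ[k] C ⊗[k] C)
  let t := yOf eH (Algebra.TensorProduct.includeRight : C →ₐ[k] C ⊗[k] C)
  have e1 : (lift a t).left.appTop ((fst H H * snd H H).left.appTop (fnOf eH b))
      = (a * t).left.appTop (fnOf eH b) := by
    have : a * t = lift a t ≫ (fst H H * snd H H) := by
      rw [MonObj.comp_mul, lift_fst, lift_snd]
    rw [this, Over.comp_left, Scheme.Hom.comp_appTop]
    rfl
  have e2 : ∀ c : C, (lift a t).left.appTop ((fst H H).left.appTop (fnOf eH c))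
      = a.left.appTop (fnOf eH c) := by
    intro c
    have : a = lift a t ≫ fst H H := by simp
    conv_rhs => rw [this]
    rw [Over.comp_left, Scheme.Hom.comp_appTop]
    rfl
  have e3 : ∀ c : C, (lift a t).left.appTop ((snd H H).left.appTop (fnOf eH c))
      = t.left.appTop (fnOf eH c) := by
    intro c
    have : t = lift a t ≫ snd H H := by simp
    conv_rhs => rw [this]
    rw [Over.comp_left, Scheme.Hom.comp_appTop]
    rfl
  have hb' := congrArg (lift a t).left.appTop hb
  rw [e1, map_sum] at hb'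
  simp only [map_mul, e2, e3] at hb'
  have h2 : (Algebra.TensorProduct.lift (Algebra.TensorProduct.includeLeft : C →ₐ[k] C ⊗[k] C)
    (Algebra.TensorProduct.includeRight : C →ₐ[k] C ⊗[k] C) fun _ _ => .all _ _) = AlgHom.id k _ := by
    ext <;> simp
  have key : (Scheme.ΓSpecIso (CommRingCat.of (C ⊗[k] C))).hom ((a * t).left.appTop (fnOf eH b))
      = CoalgebraStruct.comul (R := k) b := by
    rw [show a * t = yOf eH _ from yOf_mul' eH _ _, ev_yOf, valOf_fnOf, h2]
    rfl
  have key2 : (Scheme.ΓSpecIso (CommRingCat.of (C ⊗[k] C))).hom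
      (∑ x ∈ s, a.left.appTop (fnOf eH (p x)) * t.left.appTop (fnOf eH (q x)))
      = ∑ x ∈ s, p x ⊗ₜ[k] q x := by
    have h3 : ∀ x, (Scheme.ΓSpecIso (CommRingCat.of (C ⊗[k] C))).hom
        (a.left.appTop (fnOf eH (p x))) = p x ⊗ₜ[k] 1 := by
      intro x
      rw [ev_yOf, valOf_fnOf]
      rfl
    have h4 : ∀ x, (Scheme.ΓSpecIso (CommRingCat.of (C ⊗[k] C))).hom
        (t.left.appTop (fnOf eH (q x))) = 1 ⊗ₜ[k] q x := by
      intro x
      rw [ev_yOf, valOf_fnOf]
      rfl
    refine ((map_sum (Scheme.ΓSpecIso (CommRingCat.of (C ⊗[k] C))).hom.hom _ s).trans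
      (Finset.sum_congr rfl fun x _ =>
        map_mul (Scheme.ΓSpecIso (CommRingCat.of (C ⊗[k] C))).hom.hom _ _)).trans ?_
    refine Finset.sum_congr rfl fun x _ => ?_
    have h5 := h3 x
    have h6 := h4 x
    refine (congrArg₂ (· * ·) h5 h6).trans ?_
    simp
  rw [← key, ← key2]
  exact congrArg (Scheme.ΓSpecIso (CommRingCat.of (C ⊗[k] C))).hom.hom hb'

/-- a function with value `1` at the unit which is multiplicative on `H × H` is group-like. -/
theorem isGroupLikeElem_of_mul_appTop (b : C)
    (hε : CoalgebraStruct.counit (R := k) b = 1)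
    (hb : (fst H H * snd H H).left.appTop (fnOf eH b)
      = (fst H H).left.appTop (fnOf eH b) * (snd H H).left.appTop (fnOf eH b)) :
    IsGroupLikeElem k b := by
  refine ⟨hε, ?_⟩
  have := comul_eq_of_mul_appTop eH b ({()} : Finset Unit) (fun _ => b) (fun _ => b)
    (by simpa using hb)
  simpa using this

end

end Groth.Agent.Lib.Helper84.Obs
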