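import Mathlib
import Groth.Agent.Lib.Helper84.Obs.Trans
import Groth.Agent.Lib.Helper84.Obs.HopfObs

/-!
# Rational modules of an affine group and comodules of its Hopf algebra (helper84)
-/

set_option autoImplicit false
universe u
open CategoryTheory MonoidalCategory CartesianMonoidalCategory MonObj GrpObj AlgebraicGeometry Opposite
open CoactBr Limits TensorProduct

namespace Groth.Agent.Lib.Helper84.Obs

open Groth.Agent.Lib.Helper84.GModComod

section Pull

variable {k : Type u} [CommRing k]
variable {G G' : Over (Spec (CommRingCat.of k))} [GrpObj G] [GrpObj G']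
variable {M : Type u} [AddCommGroup M] [Module k M]

/-- restriction of a rational module along a homomorphism. -/
noncomputable def pullGMod (φ : G' ⟶ G) [IsMonHom φ] (ρ : VecGrp.GMod G M) : VecGrp.GMod G' M where
  ρ B _ _ := (ρ.ρ B).comp
    { toFun := fun y => y ≫ φ
      map_one' := MonObj.one_comp φ
      map_mul' := fun a b => MonObj.mul_comp a b φ }
  naturality ψ g x := by
    have := ρ.naturality ψ (g ≫ φ) x
    simp only [MonoidHom.comp_apply, MonoidHom.coe_mk, OneHom.coe_mk]
    rw [this, Category.assoc]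

theorem pullGMod_apply (φ : G' ⟶ G) [IsMonHom φ] (ρ : VecGrp.GMod G M) (B : Type u) [CommRing B]
    [Algebra k B] (y : VecGrp.pt k B ⟶ G') :
    (pullGMod φ ρ).ρ B y = ρ.ρ B (y ≫ φ) := rfl

end Pull

section Comod

variable {k : Type u} [CommRing k]
variable {G : Over (Spec (CommRingCat.of k))} [GrpObj G]
variable {A : Type u} [CommRing A] [HopfAlgebra k A] (e : sp k A ≅ G) [IsMonHom e.hom]
variable {M : Type u} [AddCommGroup M] [Module k M] (ρ : VecGrp.GMod G M)

/-- the comodule structure attached to a rational module. -/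
@[reducible] noncomputable def comodOf : HopfRep.Comod k A M where
  coact := deltaOf (pullGMod e.hom ρ)
  coassoc := deltaOf_coassoc (pullGMod e.hom ρ)
  counit_comp := deltaOf_counit (pullGMod e.hom ρ)

/-- the action of a point in terms of the coaction. -/
theorem rho_yOf_one_tmul (B : Type u) [CommRing B] [Algebra k B] (x : A →ₐ[k] B) (m : M) :
    ρ.ρ B (yOf e x) ((1 : B) ⊗ₜ[k] m)
      = TensorProduct.comm k M B (LinearMap.lTensor M x.toLinearMap
          ((comodOf e ρ).coact m)) := by
  have h := rho_one_tmul (pullGMod e.hom ρ) B (ptOf x) m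
  rw [algOf_ptOf, tauD_apply] at h
  exact h

end Comod

section Fix

variable {k : Type u} [Field k]
variable {G : Over (Spec (CommRingCat.of k))} [GrpObj G]
variable {A : Type u} [CommRing A] [HopfAlgebra k A] (e : sp k A ≅ G) [IsMonHom e.hom]
variable {M : Type u} [AddCommGroup M] [Module k M] (ρ : VecGrp.GMod G M)

theorem rho_yOf_fix_iff (B : Type u) [CommRing B] [Algebra k B] (x : A →ₐ[k] B) (m : M) :
    ρ.ρ B (yOf e x) ((1 : B) ⊗ₜ[k] m) = (1 : B) ⊗ₜ[k] m ↔
      @IsFix k _ A _ _ B _ _ M _ _ (comodOf e ρ) x m := by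
  rw [rho_yOf_one_tmul]
  unfold IsFix
  rw [← (TensorProduct.comm k M B).injective.eq_iff, TensorProduct.comm_tmul]

end Fix

end Groth.Agent.Lib.Helper84.Obs
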