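import Mathlib
import Groth.Agent.Lib.Helper84.Obs.GModDict

/-!
# The rational module of a comodule, on a group isomorphic to `Spec A` (helper84)
-/

set_option autoImplicit false
universe u
open CategoryTheory MonoidalCategory CartesianMonoidalCategory MonObj GrpObj AlgebraicGeometry Opposite
open CoactBr Limits TensorProduct

namespace Groth.Agent.Lib.Helper84.Obs

open Groth.Agent.Lib.Helper84.GModComod

section

variable {k : Type u} [Field k]
variable {G : Over (Spec (CommRingCat.of k))} [GrpObj G]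
variable {A : Type u} [CommRing A] [HopfAlgebra k A] (e : sp k A ≅ G) [IsMonHom e.hom]
variable {V : Type u} [AddCommGroup V] [Module k V]

/-- the rational `G`-module of an `A`-comodule. -/
noncomputable def gmodOn (c : HopfRep.Comod k A V) : VecGrp.GMod G V :=
  pullGMod e.inv (@gmodOfComod k _ A _ _ V _ _ c)

theorem gmodOn_yOf_one_tmul (c : HopfRep.Comod k A V) (B : Type u) [CommRing B] [Algebra k B]
    (x : A →ₐ[k] B) (v : V) :
    (gmodOn e c).ρ B (yOf e x) ((1 : B) ⊗ₜ[k] v)
      = TensorProduct.comm k V B (LinearMap.lTensor V x.toLinearMap (c.coact v)) := by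
  unfold gmodOn
  rw [pullGMod_apply]
  have h1 : yOf e x ≫ e.inv = ptOf x := by
    unfold yOf
    rw [Category.assoc, Iso.hom_inv_id, Category.comp_id]
    rfl
  have h2 := @gmodOfComod_one_tmul k _ A _ _ V _ _ c B _ _ (ptOf x) v
  have h3 : (Spec.mapMulEquiv.symm (ptOf (R := k) x)).ofConv = x := algOf_ptOf x
  rw [h3] at h2
  rw [← h2]
  congr 2

theorem gmodOn_fix_iff (c : HopfRep.Comod k A V) (B : Type u) [CommRing B] [Algebra k B]
    (x : A →ₐ[k] B) (v : V) :
    (gmodOn e c).ρ B (yOf e x) ((1 : B) ⊗ₜ[k] v) = (1 : B) ⊗ₜ[k] v ↔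
      @IsFix k _ A _ _ B _ _ V _ _ c x v := by
  rw [gmodOn_yOf_one_tmul]
  unfold IsFix
  rw [← (TensorProduct.comm k V B).injective.eq_iff, TensorProduct.comm_tmul]

end

end Groth.Agent.Lib.Helper84.Obs
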