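import Mathlib
import Groth.Prelude.Def_ComodTens
import Groth.Prelude.Def_ComodSub
import Groth.Agent.Lib.Helper84.Obs.HopfObs
import Groth.Agent.Lib.Helper84.PointExt
import Groth.Agent.Lib.Helper84.PointDense
import Groth.Agent.Lib.Helper84.GLnSurj

/-!
# Stabilisers of vectors and observable hulls, Hopf side, part 2 (helper84)
-/

set_option autoImplicit false
set_option linter.unusedSectionVars false
universe u v w w'
open TensorProduct

namespace Groth.Agent.Lib.Helper84.Obs

open Groth.Agent.H40

section Hom

variable {k : Type u} [Field k] {A : Type v} [CommRing A] [HopfAlgebra k A]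
  {C : Type w} [CommRing C] [Algebra k C]
  {V : Type w'} [AddCommGroup V] [Module k V] {W : Type w'} [AddCommGroup W] [Module k W]

/-- being fixed transfers along injective comodule maps. -/
theorem isFix_iff_of_comodHom (cV : HopfRep.Comod k A V) (cW : HopfRep.Comod k A W)
    (f : V →ₗ[k] W) (hf : @Hoch.IsComodHom k _ A _ _ _ V _ _ cV W _ _ cW f)
    (hinj : Function.Injective f) (x : A →ₐ[k] C) (v : V) :
    @IsFix k _ A _ _ C _ _ V _ _ cV x v ↔ @IsFix k _ A _ _ C _ _ W _ _ cW x (f v) := by
  unfold IsFix
  have h1 : cW.coact (f v) = f.rTensor A (cV.coact v) := LinearMap.congr_fun hf v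
  have e1 : ∀ t : V ⊗[k] A, LinearMap.lTensor W x.toLinearMap (f.rTensor A t)
      = f.rTensor C (LinearMap.lTensor V x.toLinearMap t) := by
    intro t
    rw [← LinearMap.comp_apply, LinearMap.lTensor_comp_rTensor, ← LinearMap.rTensor_comp_lTensor,
      LinearMap.comp_apply]
  have h2 : f v ⊗ₜ[k] (1 : C) = f.rTensor C (v ⊗ₜ[k] (1 : C)) := by simp
  rw [h1, e1, h2]
  have hinj' : Function.Injective (f.rTensor C) :=
    Module.Flat.rTensor_preserves_injective_linearMap f hinj
  exact hinj'.eq_iff.symm

end Hom

section Pi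

variable {k : Type u} [Field k] {A : Type v} [CommRing A] [HopfAlgebra k A]
  {C : Type w} [CommRing C] [Algebra k C]
  {ι : Type w'} [Fintype ι] [DecidableEq ι]

/-- a tuple of functions is fixed iff each of them is invariant. -/
theorem isFix_pi_iff (x : A →ₐ[k] C) (m : ι → A) :
    @IsFix k _ A _ _ C _ _ (ι → A) _ _
      (ComodTens.Comod.pi (fun _ : ι => (HopfRep.Comod.regular k A))) x m ↔
      ∀ i, IsRInv x (m i) := by
  unfold IsFix IsRInv
  rw [ComodTens.pi_coact]
  have h0 : (m ⊗ₜ[k] (1 : C) : (ι → A) ⊗[k] C) =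
      ∑ i, (LinearMap.single k (fun _ : ι => A) i).rTensor C (m i ⊗ₜ[k] (1 : C)) := by
    simp only [LinearMap.rTensor_tmul]
    rw [← TensorProduct.sum_tmul]
    congr 1
    ext j
    simp [Finset.sum_apply, Pi.single_apply]
  have h1 : ∀ i, LinearMap.lTensor (ι → A) x.toLinearMap
      ((LinearMap.single k (fun _ : ι => A) i).rTensor A (CoalgebraStruct.comul (R := k) (m i)))
      = (LinearMap.single k (fun _ : ι => A) i).rTensor C
        (LinearMap.lTensor A x.toLinearMap (CoalgebraStruct.comul (R := k) (m i))) := by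
    intro i
    rw [← LinearMap.comp_apply, LinearMap.lTensor_comp_rTensor, ← LinearMap.rTensor_comp_lTensor,
      LinearMap.comp_apply]
  have h1' : LinearMap.lTensor (ι → A) x.toLinearMap
      (∑ i, (LinearMap.single k (fun _ : ι => A) i).rTensor A
        ((HopfRep.Comod.regular k A).coact (m i)))
      = ∑ i, (LinearMap.single k (fun _ : ι => A) i).rTensor C
        (LinearMap.lTensor A x.toLinearMap (CoalgebraStruct.comul (R := k) (m i))) := by
    rw [map_sum]
    exact Finset.sum_congr rfl fun i _ => h1 i
  rw [h1']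
  constructor
  · intro h j
    rw [h0] at h
    have h2 := congrArg ((LinearMap.proj (R := k) (φ := fun _ : ι => A) j).rTensor C) h
    simp only [map_sum] at h2
    have h3 : ∀ (i : ι) (t : A ⊗[k] C), (LinearMap.proj (R := k) (φ := fun _ : ι => A) j).rTensor C
        ((LinearMap.single k (fun _ : ι => A) i).rTensor C t) = if i = j then t else 0 := by
      intro i t
      rw [← LinearMap.comp_apply, ← LinearMap.rTensor_comp]
      by_cases hij : i = j
      · subst hij
        rw [if_pos rfl]
        have : (LinearMap.proj (R := k) (φ := fun _ : ι => A) i) ∘ₗ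
            (LinearMap.single k (fun _ : ι => A) i) = LinearMap.id := by
          ext a; simp
        rw [this, LinearMap.rTensor_id, LinearMap.id_apply]
      · rw [if_neg hij]
        have : (LinearMap.proj (R := k) (φ := fun _ : ι => A) j) ∘ₗ
            (LinearMap.single k (fun _ : ι => A) i) = 0 := by
          ext a; simp [hij]
        rw [this, LinearMap.rTensor_zero, LinearMap.zero_apply]
    simp only [h3, Finset.sum_ite_eq', Finset.mem_univ, if_true] at h2
    exact h2
  · intro h
    rw [h0]
    exact Finset.sum_congr rfl fun i _ => by rw [h i]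

end Pi

section Stab

variable {k : Type u} [Field k] {A : Type u} [CommRing A] [HopfAlgebra k A]

/-- **a finite set of functions is the stabiliser datum of a vector in a finite-dimensional
comodule.** -/
theorem exists_stab_vector (s : Finset A) :
    ∃ (V : Type u) (_ : AddCommGroup V) (_ : Module k V) (_ : Module.Finite k V)
      (c : HopfRep.Comod k A V) (v : V),
      ∀ (C : Type u) [CommRing C] [Algebra k C] (x : A →ₐ[k] C),
        @IsFix k _ A _ _ C _ _ V _ _ c x v ↔ ∀ a ∈ s, IsRInv x a := by
  classical
  let ι := ↥s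
  let cM : HopfRep.Comod k A (ι → A) :=
    ComodTens.Comod.pi (fun _ : ι => (HopfRep.Comod.regular k A))
  let m₀ : ι → A := fun j => j.1
  obtain ⟨W, hWf, hm, hW⟩ : ∃ W : Submodule k (ι → A), Module.Finite k W ∧ m₀ ∈ W ∧
      @HopfRep.IsSubcomod k A _ _ _ _ (ι → A) _ _ cM W := by
    letI : HopfRep.Comod k A (ι → A) := cM
    exact exists_finite_subcomod_mem (k := k) (C := A) (V := ι → A) m₀
  let cW : HopfRep.Comod k A W := ComodSub.Comod.restr cM W hW
  refine ⟨W, inferInstance, inferInstance, hWf, cW, ⟨m₀, hm⟩, ?_⟩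
  intro C _ _ x
  rw [isFix_iff_of_comodHom cW cM W.subtype (ComodSub.isComodHom_subtype cM W hW)
    W.injective_subtype x ⟨m₀, hm⟩]
  show @IsFix k _ A _ _ C _ _ (ι → A) _ _ cM x m₀ ↔ _
  rw [isFix_pi_iff]
  constructor
  · intro h a ha
    exact h ⟨a, ha⟩
  · intro h j
    exact h j.1 j.2

end Stab

section Dense

variable {k : Type u} [Field k] [IsAlgClosed k] {A : Type u} [CommRing A] [HopfAlgebra k A]
  {C : Type u} [CommRing C] [HopfAlgebra k C] [IsReduced C]
  {V : Type u} [AddCommGroup V] [Module k V] [HopfRep.Comod k A V]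

/-- for reduced `C` over an algebraically closed field the rational points detect zero. -/
theorem eq_zero_of_forall_point' (t : V ⊗[k] C)
    (h : ∀ z : C →ₐ[k] k, LinearMap.lTensor V z.toLinearMap t = 0) : t = 0 := by
  have h1 : TensorProduct.comm k V C t = 0 := by
    apply Groth.Agent.Lib.Helper84.PointDense.eq_zero_of_forall_slice'
    intro ψ
    have hnil := Groth.Agent.Lib.Helper84.PointExt.isNilpotent_of_forall_algHom (k := k)
      (slice ψ (TensorProduct.comm k V C t)) (by
        intro z
        have e := Groth.Agent.Lib.Helper84.PointDense.slice_comm_slice z.toLinearMap ψ t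
        show z.toLinearMap (slice ψ (TensorProduct.comm k V C t)) = 0
        rw [e]
        unfold slice
        rw [LinearMap.comp_apply, h z]
        simp)
    exact hnil.eq_zero
  exact (TensorProduct.comm k V C).injective (by rw [h1, map_zero])

/-- a vector fixed by all rational points of a smooth subgroup is fixed by the subgroup. -/
theorem isFix_of_forall_point (π : A →ₐ[k] C) (v : V)
    (h : ∀ z : C →ₐ[k] k, IsFix (z.comp π) v) : IsFix π v := by
  unfold IsFix
  rw [← sub_eq_zero]
  apply eq_zero_of_forall_point'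
  intro z
  have hz := h z
  unfold IsFix at hz
  rw [map_sub, sub_eq_zero]
  have h2 : (z.comp π).toLinearMap = z.toLinearMap ∘ₗ π.toLinearMap := rfl
  rw [h2, LinearMap.lTensor_comp, LinearMap.comp_apply] at hz
  rw [hz]
  simp

end Dense

section Restrict

variable {k : Type u} [Field k] {A : Type v} [CommRing A] [HopfAlgebra k A]
  {C : Type w} [CommRing C] [Algebra k C] {C' : Type w} [CommRing C'] [Algebra k C']
  {V : Type w'} [AddCommGroup V] [Module k V] [HopfRep.Comod k A V]

/-- a vector fixed by `π` is fixed by every point factoring through `π`. -/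
theorem isFix_comp (π : A →ₐ[k] C) (z : C →ₐ[k] C') (v : V) (h : IsFix π v) :
    IsFix (z.comp π) v := by
  unfold IsFix at h ⊢
  have h2 : (z.comp π).toLinearMap = z.toLinearMap ∘ₗ π.toLinearMap := rfl
  rw [h2, LinearMap.lTensor_comp, LinearMap.comp_apply, h]
  simp

theorem isRInv_comp (π : A →ₐ[k] C) (z : C →ₐ[k] C') (a : A) (h : IsRInv π a) :
    IsRInv (z.comp π) a :=
  (isRInv_iff_isFix _ _).2 (isFix_comp π z a ((isRInv_iff_isFix _ _).1 h))

end Restrict

end Groth.Agent.Lib.Helper84.Obs
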