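import Mathlib
import Groth.Agent.Lib.Helper84.Obs.HopfObs2

/-!
# Coefficient functions separating cosets (helper84)
-/

set_option autoImplicit false
set_option linter.unusedSectionVars false
universe u v w w'
open TensorProduct

namespace Groth.Agent.Lib.Helper84.Obs

open Groth.Agent.H40

section Sep

variable {k : Type u} [Field k] {A : Type v} [CommRing A] [HopfAlgebra k A]

/-- the finitely many "left coefficient functions" of a finite set of functions: they are
invariant whenever the given functions are, and two points agreeing on them translate the given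
functions in the same way. -/
theorem exists_finset_sep (s : Finset A) :
    ∃ s' : Finset A,
      (∀ (C : Type w) [CommRing C] [Algebra k C] (π : A →ₐ[k] C),
        (∀ a ∈ s, IsRInv π a) → ∀ b ∈ s', IsRInv π b) ∧
      ∀ x x' : A →ₐ[k] k, (∀ b ∈ s', x b = x' b) → ∀ a ∈ s,
        LinearMap.lTensor A x.toLinearMap (CoalgebraStruct.comul (R := k) a)
          = LinearMap.lTensor A x'.toLinearMap (CoalgebraStruct.comul (R := k) a) := by
  classical
  let b := Module.Free.chooseBasis k A
  let E := TensorProduct.equivFinsuppOfBasisLeft (N := A) b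
  have hE : ∀ (a : A) l, E (CoalgebraStruct.comul (R := k) a) l
      = coeffMap (C := A) (V := A) (b.coord l) a := by
    intro a l
    rw [coeffMap_apply]
    exact TensorProduct.equivFinsuppOfBasisLeft_apply b _ l
  refine ⟨s.biUnion (fun a => (E (CoalgebraStruct.comul (R := k) a)).support.image
    (fun l => E (CoalgebraStruct.comul (R := k) a) l)), ?_, ?_⟩
  · intro C _ _ π hπ b' hb'
    obtain ⟨a, ha, hb'⟩ := Finset.mem_biUnion.1 hb'
    obtain ⟨l, -, rfl⟩ := Finset.mem_image.1 hb'
    rw [hE]
    exact isRInv_coeffMap (M := A) π a ((isRInv_iff_isFix π a).1 (hπ a ha)) (b.coord l)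
  · intro x x' hx a ha
    have h1 : CoalgebraStruct.comul (R := k) a
        = (E (CoalgebraStruct.comul (R := k) a)).sum fun i n => b i ⊗ₜ[k] n := by
      conv_lhs => rw [← E.symm_apply_apply (CoalgebraStruct.comul (R := k) a)]
      exact TensorProduct.equivFinsuppOfBasisLeft_symm_apply b _
    rw [h1]
    unfold Finsupp.sum
    rw [map_sum, map_sum]
    refine Finset.sum_congr rfl fun l hl => ?_
    rw [LinearMap.lTensor_tmul, LinearMap.lTensor_tmul]
    congr 1
    exact hx _ (Finset.mem_biUnion.2 ⟨a, ha, Finset.mem_image_of_mem _ hl⟩)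

end Sep

end Groth.Agent.Lib.Helper84.Obs
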