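import Mathlib
import Groth.Agent.Lib.Helper84.Obs.GModOn
import Groth.Agent.Lib.Helper84.Obs.Setup

/-!
# The dictionary restated for the test objects `VecGrp.pt k B` (helper84)

`VecGrp.pt k B` and `CoactBr.sp k B` are definitionally equal but not syntactically; the
statements of the Grosshans block use the former.  This file restates the dictionary there.
-/

set_option autoImplicit false
set_option linter.unusedSectionVars false
universe u
open CategoryTheory MonoidalCategory CartesianMonoidalCategory MonObj GrpObj AlgebraicGeometry Opposite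
open CoactBr Limits TensorProduct

namespace Groth.Agent.Lib.Helper84.Obs

section

variable {k : Type u} [Field k]
variable {G : Over (Spec (CommRingCat.of k))} [GrpObj G]
variable {A : Type u} [CommRing A] [HopfAlgebra k A] (e : sp k A ≅ G) [IsMonHom e.hom]
variable {B : Type u} [CommRing B] [Algebra k B]

/-- `yOf`, with source spelled `VecGrp.pt k B`. -/
noncomputable def yV (x : A →ₐ[k] B) : VecGrp.pt k B ⟶ G := yOf e x

theorem exists_yV (y : VecGrp.pt k B ⟶ G) : ∃ x : A →ₐ[k] B, yV e x = y := exists_yOf e y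

theorem yV_injective : Function.Injective (yV e : (A →ₐ[k] B) → _) := yOf_injective e

theorem yV_one : yV e ((Algebra.ofId k B).comp (Bialgebra.counitAlgHom k A)) = 1 := yOf_one e

theorem ev_yV (x : A →ₐ[k] B) (f : Γ(G.left, ⊤)) :
    (Scheme.ΓSpecIso (CommRingCat.of B)).hom ((yV e x).left.appTop f) = x (valOf e f) :=
  ev_yOf e x f

theorem isRTransInv_yV_iff (x : A →ₐ[k] B) (f : Γ(G.left, ⊤)) :
    AGF.IsRTransInv (yV e x) f ↔ IsRInv x (valOf e f) :=
  isRTransInv_iff e (Iso.refl _) (yOf e x) x (by simp) f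

variable {M : Type u} [AddCommGroup M] [Module k M]

theorem rho_yV_fix_iff (ρ : VecGrp.GMod G M) (x : A →ₐ[k] B) (m : M) :
    ρ.ρ B (yV e x) ((1 : B) ⊗ₜ[k] m) = (1 : B) ⊗ₜ[k] m ↔
      @IsFix k _ A _ _ B _ _ M _ _ (comodOf e ρ) x m :=
  rho_yOf_fix_iff e ρ B x m

theorem gmodOn_yV_one_tmul (c : HopfRep.Comod k A M) (x : A →ₐ[k] B) (v : M) :
    (gmodOn e c).ρ B (yV e x) ((1 : B) ⊗ₜ[k] v)
      = TensorProduct.comm k M B (LinearMap.lTensor M x.toLinearMap (c.coact v)) :=
  gmodOn_yOf_one_tmul e c B x v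

theorem gmodOn_yV_fix_iff (c : HopfRep.Comod k A M) (x : A →ₐ[k] B) (v : M) :
    (gmodOn e c).ρ B (yV e x) ((1 : B) ⊗ₜ[k] v) = (1 : B) ⊗ₜ[k] v ↔
      @IsFix k _ A _ _ B _ _ M _ _ c x v :=
  gmodOn_fix_iff e c B x v

/-- a group-action triviality. -/
theorem rho_inv_mul_fix (ρ : VecGrp.GMod G M) (g g' : VecGrp.pt k B ⟶ G) (w : B ⊗[k] M)
    (h : ρ.ρ B g' w = ρ.ρ B g w) : ρ.ρ B (g⁻¹ * g') w = w := by
  rw [map_mul, map_inv]
  show (ρ.ρ B g)⁻¹ (ρ.ρ B g' w) = w
  rw [h]
  exact LinearEquiv.symm_apply_apply _ _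

end

section Sub

variable {k : Type u} [Field k]
variable {G H : Over (Spec (CommRingCat.of k))} [GrpObj G] [GrpObj H]
variable {A : Type u} [CommRing A] [HopfAlgebra k A] (e : sp k A ≅ G) [IsMonHom e.hom]
variable {C : Type u} [CommRing C] [HopfAlgebra k C] (eH : sp k C ≅ H) [IsMonHom eH.hom]
variable (i : H ⟶ G) (π : A →ₐ[k] C) (hπ : yOf e π = eH.hom ≫ i)
variable {B : Type u} [CommRing B] [Algebra k B]

include hπ in
theorem yV_comp_sub (z : C →ₐ[k] B) : yV eH z ≫ i = yV e (z.comp π) := by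
  have h1 : yOf eH z ≫ i = CoactBr.pt z ≫ (eH.hom ≫ i) := by
    unfold yOf
    rw [Category.assoc]
  show yOf eH z ≫ i = yOf e (z.comp π)
  rw [h1, ← hπ]
  exact pt_yOf e z π

include hπ in
theorem isRTransInv_sub_iff (f : Γ(G.left, ⊤)) :
    AGF.IsRTransInv i f ↔ IsRInv π (valOf e f) :=
  isRTransInv_iff e eH i π hπ f

include hπ in
/-- the universal point of `H`. -/
theorem yV_univ : (eH.hom : VecGrp.pt k C ⟶ H) ≫ i = yV e π := hπ.symm

end Sub

end Groth.Agent.Lib.Helper84.Obs
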