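import Mathlib
import Groth.Agent.Lib.Helper84.Obs.HopfObs2
import Groth.Agent.Lib.Helper84.HopfFFTrans
import Groth.Agent.Lib.Helper93.Comod
import Groth.Prelude.Def_GLin2

/-!
# Reductive subgroups are observable, Hopf side (helper84)

`π : A → C` a surjective bialgebra map of commutative Hopf algebras (a closed subgroup `H ⊆ G`),
`C` coacting on `A` through right translations.  If invariants separate disjoint closed invariant
subsets, every point of the observable hull of `H` lies in `H`.
-/

set_option autoImplicit false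
set_option linter.unusedSectionVars false
universe u v w
open TensorProduct WithConv

namespace Groth.Agent.Lib.Helper84.Obs

open Groth.Agent.H40 Groth.Agent.Lib.Helper84 Groth.Agent.Lib.Helper84.HopfFFTrans

section LTrans

variable {k : Type u} [Field k] {A : Type v} [CommRing A] [HopfAlgebra k A]

/-- `a ⊗ b ↦ x(a) b`. -/
noncomputable def T1 (x : A →ₐ[k] k) : A ⊗[k] A →ₗ[k] A :=
  (TensorProduct.lid k A).toLinearMap ∘ₗ LinearMap.rTensor A x.toLinearMap

/-- `a ⊗ w ↦ x(a) w`. -/
noncomputable def T2 (x : A →ₐ[k] k) : A ⊗[k] (A ⊗[k] A) →ₗ[k] A ⊗[k] A :=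
  (TensorProduct.lid k (A ⊗[k] A)).toLinearMap ∘ₗ LinearMap.rTensor (A ⊗[k] A) x.toLinearMap

theorem ltrans_eq_T1 (x : A →ₐ[k] k) (a : A) :
    ltransEquiv x a = T1 x (CoalgebraStruct.comul (R := k) a) := by
  rw [ltransEquiv_apply]
  generalize Coalgebra.comul (R := k) a = z
  induction z using TensorProduct.induction_on with
  | zero => simp
  | tmul a₁ a₂ => simp [T1]
  | add a b ha hb => simp only [map_add, ha, hb]

theorem comul_T1 (x : A →ₐ[k] k) (u : A ⊗[k] A) :
    CoalgebraStruct.comul (R := k) (T1 x u) =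
      T2 x (LinearMap.lTensor A (CoalgebraStruct.comul (R := k) (A := A)) u) := by
  induction u using TensorProduct.induction_on with
  | zero => simp
  | tmul a b => simp [T1, T2]
  | add a b ha hb => simp only [map_add, ha, hb]

theorem T1_tmul (x : A →ₐ[k] k) (w : A ⊗[k] A) (b : A) :
    T1 x w ⊗ₜ[k] b = T2 x (TensorProduct.assoc k A A A (w ⊗ₜ[k] b)) := by
  induction w using TensorProduct.induction_on with
  | zero => simp
  | tmul a b => simp [T1, T2, TensorProduct.smul_tmul']
  | add a b ha hb => simp only [map_add, ha, hb, TensorProduct.add_tmul]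

theorem rTensor_ltrans (x : A →ₐ[k] k) (v : A ⊗[k] A) :
    LinearMap.rTensor A (ltransEquiv x : A →ₐ[k] A).toLinearMap v =
      T2 x (TensorProduct.assoc k A A A
        (LinearMap.rTensor A (CoalgebraStruct.comul (R := k) (A := A)) v)) := by
  induction v using TensorProduct.induction_on with
  | zero => simp
  | tmul a b =>
    rw [LinearMap.rTensor_tmul, LinearMap.rTensor_tmul, ← T1_tmul]
    congr 1
    exact ltrans_eq_T1 x a
  | add a b ha hb => simp only [map_add, ha, hb]

/-- left translations commute with the right regular coaction. -/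
theorem comul_ltrans (x : A →ₐ[k] k) (a : A) :
    CoalgebraStruct.comul (R := k) (ltransEquiv x a) =
      LinearMap.rTensor A (ltransEquiv x : A →ₐ[k] A).toLinearMap
        (CoalgebraStruct.comul (R := k) a) := by
  rw [ltrans_eq_T1, comul_T1, rTensor_ltrans]
  congr 1
  have h := LinearMap.congr_fun (Coalgebra.coassoc (R := k) (A := A)) a
  simp only [LinearMap.comp_apply, LinearEquiv.coe_coe] at h
  exact h.symm

end LTrans

section Main

variable {k : Type u} [Field k] {A : Type v} [CommRing A] [HopfAlgebra k A]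
  {C : Type v} [CommRing C] [HopfAlgebra k C] (π : A →ₐc[k] C)

/-- `A` as a `C`-comodule through right translations. -/
@[reducible] noncomputable def cPush : HopfRep.Comod k C A :=
  GLin.comodAlong π (HopfRep.Comod.regular k A)

theorem cPush_coact (a : A) :
    (cPush π).coact a = LinearMap.lTensor A (π : A →ₐ[k] C).toLinearMap
      (CoalgebraStruct.comul (R := k) a) := rfl

theorem cPush_fix_iff (a : A) :
    (cPush π).coact a = a ⊗ₜ[k] (1 : C) ↔ IsRInv (π : A →ₐ[k] C) a := Iff.rfl

theorem cPush_mul (a b : A) : (cPush π).coact (a * b) = (cPush π).coact a * (cPush π).coact b := by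
  rw [cPush_coact, cPush_coact, cPush_coact, Bialgebra.comul_mul]
  have h : ∀ z : A ⊗[k] A, LinearMap.lTensor A (π : A →ₐ[k] C).toLinearMap z =
      Algebra.TensorProduct.map (AlgHom.id k A) (π : A →ₐ[k] C) z := by
    intro z
    induction z using TensorProduct.induction_on with
    | zero => simp
    | tmul a b => simp
    | add a b ha hb => simp only [map_add, ha, hb]
  rw [h, h, h, map_mul]

theorem cPush_one : (cPush π).coact (1 : A) = 1 := by
  rw [cPush_coact, Bialgebra.comul_one]
  simp [Algebra.TensorProduct.one_def]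

/-- kernels of maps `q : A → C` compatible with right translations are subcomodules. -/
theorem isSubcomod_ker_of_compat (q : A →ₐ[k] C)
    (hq : ∀ a, CoalgebraStruct.comul (R := k) (q a) =
      TensorProduct.map q.toLinearMap (π : A →ₐ[k] C).toLinearMap
        (CoalgebraStruct.comul (R := k) a)) :
    @HopfRep.IsSubcomod k C _ _ _ _ A _ _ (cPush π) ((RingHom.ker q).restrictScalars k) := by
  have hf : @Hoch.IsComodHom k _ C _ _ _ A _ _ (cPush π) C _ _ (HopfRep.Comod.regular k C)
      q.toLinearMap := by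
    apply LinearMap.ext
    intro a
    simp only [LinearMap.comp_apply]
    show CoalgebraStruct.comul (R := k) (q a) = LinearMap.rTensor C q.toLinearMap
      (LinearMap.lTensor A (π : A →ₐ[k] C).toLinearMap (CoalgebraStruct.comul (R := k) a))
    rw [hq]
    exact (LinearMap.congr_fun (LinearMap.rTensor_comp_lTensor (f := q.toLinearMap)
      (g := (π : A →ₐ[k] C).toLinearMap)) _).symm
  have h1 := @Groth.Agent.Lib.Helper93.Comod.isSubcomod_ker k _ C _ _ _ C _ _
    (HopfRep.Comod.regular k C) A _ _ (cPush π) q.toLinearMap hf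
  have h2 : (RingHom.ker q).restrictScalars k = LinearMap.ker q.toLinearMap := by
    ext a
    simp [RingHom.mem_ker]
  rw [h2]
  exact h1

theorem isRadical_ker [IsReduced C] (q : A →ₐ[k] C) : (RingHom.ker q).IsRadical := by
  intro a ha
  obtain ⟨n, hn⟩ := ha
  rw [RingHom.mem_ker] at hn ⊢
  rw [map_pow] at hn
  exact IsReduced.eq_zero _ ⟨n, hn⟩

/-- inverses of points restricted along a bialgebra map. -/
theorem comp_inv (z : C →ₐ[k] k) :
    (toConv (z.comp (π : A →ₐ[k] C)))⁻¹ = toConv ((toConv z)⁻¹.ofConv.comp (π : A →ₐ[k] C)) := by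
  symm
  apply eq_inv_of_mul_eq_one_left
  have h := comp_mul π (toConv z)⁻¹.ofConv z
  rw [toConv_ofConv, inv_mul_cancel, comp_one] at h
  have h' := congrArg toConv h
  rw [toConv_ofConv, toConv_ofConv] at h'
  exact h'.symm

/-- **every point of the observable hull of a "reductive" subgroup lies in the subgroup.** -/
theorem exists_factor_of_sep [IsAlgClosed k] [Algebra.FiniteType k A] [IsReduced C]
    (hπ : Function.Surjective π)
    (hsep : ∀ I₁ I₂ : Ideal A, I₁.IsRadical → I₂.IsRadical →
      @HopfRep.IsSubcomod k C _ _ _ _ A _ _ (cPush π) (I₁.restrictScalars k) →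
      @HopfRep.IsSubcomod k C _ _ _ _ A _ _ (cPush π) (I₂.restrictScalars k) → I₁ ⊔ I₂ = ⊤ →
      ∃ b₁ ∈ I₁, ∃ b₂ ∈ I₂, IsRInv (π : A →ₐ[k] C) b₁ ∧ IsRInv (π : A →ₐ[k] C) b₂ ∧ b₁ + b₂ = 1)
    (x : A →ₐ[k] k) (hx : ∀ a, IsRInv (π : A →ₐ[k] C) a → IsRInv x a) :
    ∃ z : C →ₐ[k] k, x = z.comp (π : A →ₐ[k] C) := by
  by_contra hno
  let τ : A →ₐ[k] A := (ltransEquiv x : A →ₐ[k] A)
  let q₂ : A →ₐ[k] C := (π : A →ₐ[k] C).comp τ
  have hπ' : Function.Surjective (π : A →ₐ[k] C) := hπ
  have h12 : RingHom.ker (π : A →ₐ[k] C) ⊔ RingHom.ker q₂ = ⊤ := by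
    by_contra hne
    obtain ⟨y, hy⟩ := Groth.Agent.Lib.Helper59.exists_algHom_of_ne_top k A _ hne
    have hy1 : RingHom.ker (π : A →ₐ[k] C) ≤ RingHom.ker y := by
      intro a ha
      rw [RingHom.mem_ker]
      exact hy a (Ideal.mem_sup_left ha)
    let y' : A →ₐ[k] k := y.comp ((ltransEquiv x).symm : A →ₐ[k] A)
    have hy2 : RingHom.ker (π : A →ₐ[k] C) ≤ RingHom.ker y' := by
      intro a ha
      rw [RingHom.mem_ker]
      show y ((ltransEquiv x).symm a) = 0
      apply hy _ (Ideal.mem_sup_right _)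
      rw [RingHom.mem_ker]
      show π (ltransEquiv x ((ltransEquiv x).symm a)) = 0
      rw [AlgEquiv.apply_symm_apply]
      exact ha
    let z₁ : C →ₐ[k] k := AlgHom.liftOfSurjective (π : A →ₐ[k] C) hπ' y hy1
    let z₂ : C →ₐ[k] k := AlgHom.liftOfSurjective (π : A →ₐ[k] C) hπ' y' hy2
    have hz₁ : z₁.comp (π : A →ₐ[k] C) = y := AlgHom.liftOfSurjective_comp _ _ _ _
    have hz₂ : z₂.comp (π : A →ₐ[k] C) = y' := AlgHom.liftOfSurjective_comp _ _ _ _
    have hyy' : y = ofConv (toConv x * toConv y') := by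
      rw [← comp_ltransEquiv]
      apply AlgHom.ext
      intro a
      show y a = y ((ltransEquiv x).symm (ltransEquiv x a))
      rw [AlgEquiv.symm_apply_apply]
    have hxy : toConv x = toConv y * (toConv y')⁻¹ := by
      have := congrArg toConv hyy'
      rw [toConv_ofConv] at this
      rw [this, mul_inv_cancel_right]
    apply hno
    refine ⟨ofConv (toConv z₁ * (toConv z₂)⁻¹), ?_⟩
    have h3 := comp_mul π z₁ (toConv z₂)⁻¹.ofConv
    rw [toConv_ofConv] at h3
    rw [h3, hz₁, ← comp_inv, hz₂, ← hxy, ofConv_toConv]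
  have hq₂ : ∀ a, CoalgebraStruct.comul (R := k) (q₂ a) =
      TensorProduct.map q₂.toLinearMap (π : A →ₐ[k] C).toLinearMap
        (CoalgebraStruct.comul (R := k) a) := by
    intro a
    show CoalgebraStruct.comul (R := k) (π (ltransEquiv x a)) = _
    rw [← CoalgHomClass.map_comp_comul_apply π, comul_ltrans, LinearMap.map_rTensor]
    rfl
  have hq₁ : ∀ a, CoalgebraStruct.comul (R := k) ((π : A →ₐ[k] C) a) =
      TensorProduct.map (π : A →ₐ[k] C).toLinearMap (π : A →ₐ[k] C).toLinearMap
        (CoalgebraStruct.comul (R := k) a) := by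
    intro a
    exact (CoalgHomClass.map_comp_comul_apply π a).symm
  obtain ⟨b₁, hb₁, b₂, hb₂, hi₁, hi₂, hsum⟩ := hsep _ _ (isRadical_ker _) (isRadical_ker q₂)
    (isSubcomod_ker_of_compat π _ hq₁) (isSubcomod_ker_of_compat π q₂ hq₂) h12
  have e1 : x b₁ = 0 := by
    rw [counit_of_isRInv x b₁ (hx b₁ hi₁), ← CoalgHomClass.counit_comp_apply π]
    rw [RingHom.mem_ker] at hb₁
    have : π b₁ = 0 := hb₁
    rw [this, map_zero]
  have e2 : x b₂ = 0 := by
    have h4 := comp_ltransEquiv x (Bialgebra.counitAlgHom k A)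
    have h5 : toConv x * toConv (Bialgebra.counitAlgHom k A) = toConv x := mul_one _
    rw [h5, ofConv_toConv] at h4
    rw [← h4, AlgHom.comp_apply]
    show CoalgebraStruct.counit (R := k) (ltransEquiv x b₂) = 0
    rw [← CoalgHomClass.counit_comp_apply π]
    rw [RingHom.mem_ker] at hb₂
    have : π (ltransEquiv x b₂) = 0 := hb₂
    rw [this, map_zero]
  have e3 := congrArg x hsum
  rw [map_add, e1, e2, map_one, add_zero] at e3
  exact zero_ne_one e3

end Main

end Groth.Agent.Lib.Helper84.Obs
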