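import Mathlib
import Groth.Agent.Lib.Helper84.Obs.HopfObs2
import Groth.Agent.Lib.Helper84.Antipode
import Groth.Agent.Lib.Helper84.ShearComod
import Groth.Agent.H40.DiagSS
import Groth.Prelude.Def_ComodSub

/-!
# The transfer principle, Hopf side, part A (helper84)

`O` a commutative Hopf algebra over a field `k`, `π : O → C` an algebra map (a "subgroup" `H`).
* `invSub π`: the subalgebra `O^H` of functions invariant under right translation by `H`;
* `invSub' π`: its image under the antipode (the functions invariant under left translation), a
  subcomodule of the regular comodule.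
-/

set_option autoImplicit false
set_option linter.unusedSectionVars false
universe u v w w'
open TensorProduct

namespace Groth.Agent.Lib.Helper84.Obs

open Groth.Agent.H40 Groth.Agent.Lib.Helper84

section Aux

variable {k : Type u} [CommRing k]

theorem map_id_eq_lTensor' {M : Type v} {A : Type w} {B : Type w'} [CommRing M] [Algebra k M]
    [CommRing A] [Algebra k A] [CommRing B] [Algebra k B] (x : A →ₐ[k] B) (z : M ⊗[k] A) :
    Algebra.TensorProduct.map (AlgHom.id k M) x z = LinearMap.lTensor M x.toLinearMap z := by
  induction z using TensorProduct.induction_on with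
  | zero => simp
  | tmul a b => simp
  | add a b ha hb => simp only [map_add, ha, hb]

theorem map_eq_rTensor' {M : Type v} {A : Type w} {B : Type w'} [CommRing M] [Algebra k M]
    [CommRing A] [Algebra k A] [CommRing B] [Algebra k B] (x : A →ₐ[k] B) (z : A ⊗[k] M) :
    Algebra.TensorProduct.map x (AlgHom.id k M) z = LinearMap.rTensor M x.toLinearMap z := by
  induction z using TensorProduct.induction_on with
  | zero => simp
  | tmul a b => simp
  | add a b ha hb => simp only [map_add, ha, hb]

theorem antipode_antipode' {A : Type v} [CommRing A] [HopfAlgebra k A] (a : A) :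
    HopfAlgebra.antipode k (HopfAlgebra.antipode k a) = a := by
  have h := inv_inv (WithConv.toConv (AlgHom.id k A))
  exact congrArg (fun g => g.ofConv a) h

end Aux

section InvSub

variable {k : Type u} [Field k] {O : Type v} [CommRing O] [HopfAlgebra k O]
  {C : Type w} [CommRing C] [Algebra k C] (π : O →ₐ[k] C)

/-- the subalgebra of functions invariant under right translation by the "subgroup" `π`. -/
noncomputable def invSub : Subalgebra k O :=
  AlgHom.equalizer
    ((Algebra.TensorProduct.map (AlgHom.id k O) π).comp (Bialgebra.comulAlgHom k O))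
    (Algebra.TensorProduct.includeLeft : O →ₐ[k] O ⊗[k] C)

theorem mem_invSub_iff (b : O) : b ∈ invSub π ↔ IsRInv π b := by
  unfold invSub IsRInv
  rw [AlgHom.mem_equalizer, AlgHom.comp_apply, map_id_eq_lTensor']
  rfl

/-- the image of `invSub` under the antipode: the left-invariant functions. -/
noncomputable def invSub' : Subalgebra k O := (invSub π).map (HopfAlgebra.antipodeAlgHom k O)

theorem antipode_mem_invSub' {b : O} (hb : b ∈ invSub π) :
    HopfAlgebra.antipode k b ∈ invSub' π := ⟨b, hb, rfl⟩

theorem antipode_mem_invSub {b : O} (hb : b ∈ invSub' π) :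
    HopfAlgebra.antipode k b ∈ invSub π := by
  obtain ⟨c, hc, rfl⟩ := hb
  show HopfAlgebra.antipode k (HopfAlgebra.antipode k c) ∈ invSub π
  rw [antipode_antipode']
  exact hc

theorem comul_mem_invSub (b : O) (hb : b ∈ invSub π) :
    CoalgebraStruct.comul (R := k) b ∈
      LinearMap.range (LinearMap.lTensor O (Subalgebra.toSubmodule (invSub π)).subtype) := by
  apply mem_range_lTensor_subtype_of_forall_lslice
  intro ψ
  have h := isRInv_coeffMap (M := O) π b ((mem_invSub_iff π b).1 hb) ψ
  exact (mem_invSub_iff π _).2 h

/-- the antipode, from `invSub` to `invSub'`. -/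
noncomputable def antiRes : ↥(Subalgebra.toSubmodule (invSub π)) →ₗ[k]
    ↥(Subalgebra.toSubmodule (invSub' π)) :=
  (HopfAlgebra.antipode k).restrict (fun _ hx => antipode_mem_invSub' π hx)

/-- the antipode, from `invSub'` to `invSub`. -/
noncomputable def antiRes' : ↥(Subalgebra.toSubmodule (invSub' π)) →ₗ[k]
    ↥(Subalgebra.toSubmodule (invSub π)) :=
  (HopfAlgebra.antipode k).restrict (fun _ hx => antipode_mem_invSub π hx)

theorem isSubcomod_invSub' :
    @HopfRep.IsSubcomod k O _ _ _ _ O _ _ (HopfRep.Comod.regular k O)
      (Subalgebra.toSubmodule (invSub' π)) := by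
  intro w hw
  obtain ⟨b, hb, rfl⟩ := hw
  obtain ⟨y, hy⟩ := comul_mem_invSub π b hb
  show CoalgebraStruct.comul (R := k) (HopfAlgebra.antipode k b) ∈ _
  have h1 := comul_antipode (k := k) b
  rw [h1, ← hy]
  have key : ∀ y : O ⊗[k] ↥(Subalgebra.toSubmodule (invSub π)),
      (LinearMap.rTensor O (Subalgebra.toSubmodule (invSub' π)).subtype)
        ((TensorProduct.map (antiRes π) (HopfAlgebra.antipode k))
          ((TensorProduct.comm k O ↥(Subalgebra.toSubmodule (invSub π))) y)) =
      (TensorProduct.map (HopfAlgebra.antipode k) (HopfAlgebra.antipode k))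
        ((TensorProduct.comm k O O)
          ((LinearMap.lTensor O (Subalgebra.toSubmodule (invSub π)).subtype) y)) := by
    intro y
    induction y using TensorProduct.induction_on with
    | zero => simp
    | tmul a c => simp [antiRes]
    | add a c ha hc => simp only [map_add, ha, hc]
  exact ⟨_, key y⟩

end InvSub

end Groth.Agent.Lib.Helper84.Obs
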