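import Mathlib
import Groth.Agent.Lib.Helper84.Obs.TransferA

/-!
# The transfer principle, Hopf side, part B (helper84)

`R` a commutative comodule algebra over the commutative Hopf algebra `O`.  The diagonal comodule
structure on `R ⊗ O`; its invariants are the elements `(id ⊗ S) δ(a)`, `a ∈ R`.
-/

set_option autoImplicit false
set_option linter.unusedSectionVars false
universe u v w w'
open TensorProduct

namespace Groth.Agent.Lib.Helper84.Obs

open Groth.Agent.H40 Groth.Agent.Lib.Helper84

section Aux

variable {k : Type u} [CommRing k]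

theorem map_comp_id' {A : Type v} {B : Type w} {C : Type w'} {E : Type*} [CommRing A] [Algebra k A]
    [CommRing B] [Algebra k B] [CommRing C] [Algebra k C] [CommRing E] [Algebra k E]
    (f₂ : C →ₐ[k] E) (f₁ : A →ₐ[k] C) :
    Algebra.TensorProduct.map (f₂.comp f₁) (AlgHom.id k B) =
      (Algebra.TensorProduct.map f₂ (AlgHom.id k B)).comp
        (Algebra.TensorProduct.map f₁ (AlgHom.id k B)) :=
  Algebra.TensorProduct.ext (AlgHom.ext fun _ => rfl) (AlgHom.ext fun _ => rfl)

end Aux

section Diag

variable {k : Type u} [Field k] {O : Type v} [CommRing O] [HopfAlgebra k O]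
  {R : Type w} [CommRing R] [Algebra k R] [HopfRep.Comod k O R]
  (hmul : ∀ x y : R, HopfRep.Comod.coact (k := k) (A := O) (x * y) =
    HopfRep.Comod.coact (k := k) (A := O) x * HopfRep.Comod.coact (k := k) (A := O) y)
  (hone : HopfRep.Comod.coact (k := k) (A := O) (1 : R) = 1)

variable (k O R) in
/-- the diagonal comodule structure on `R ⊗ O`. -/
@[reducible] noncomputable def dg : HopfRep.Comod k O (R ⊗[k] O) :=
  ComodTens.Comod.tensor (inferInstance : HopfRep.Comod k O R) (HopfRep.Comod.regular k O)

/-- the diagonal coaction as an algebra map. -/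
noncomputable def diagAlg : R ⊗[k] O →ₐ[k] (R ⊗[k] O) ⊗[k] O :=
  Algebra.TensorProduct.lift
    ((Algebra.TensorProduct.map (Algebra.TensorProduct.includeLeft : R →ₐ[k] R ⊗[k] O)
      (AlgHom.id k O)).comp (Shear.coactAlg hmul hone))
    ((Algebra.TensorProduct.map (Algebra.TensorProduct.includeRight : O →ₐ[k] R ⊗[k] O)
      (AlgHom.id k O)).comp (Bialgebra.comulAlgHom k O))
    (fun _ _ => Commute.all _ _)

theorem tttc_mul (x : R ⊗[k] O) (y : O ⊗[k] O) :
    TensorProduct.map LinearMap.id (LinearMap.mul' k O)
      (AlgebraTensorModule.tensorTensorTensorComm k k k k R O O O (x ⊗ₜ[k] y)) =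
    Algebra.TensorProduct.map (Algebra.TensorProduct.includeLeft : R →ₐ[k] R ⊗[k] O)
        (AlgHom.id k O) x *
      Algebra.TensorProduct.map (Algebra.TensorProduct.includeRight : O →ₐ[k] R ⊗[k] O)
        (AlgHom.id k O) y := by
  induction x using TensorProduct.induction_on with
  | zero => simp
  | add x x' hx hx' => simp only [TensorProduct.add_tmul, map_add, hx, hx', add_mul]
  | tmul r a =>
    induction y using TensorProduct.induction_on with
    | zero => simp
    | add y y' hy hy' => simp only [TensorProduct.tmul_add, map_add, hy, hy', mul_add]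
    | tmul b c => simp [Algebra.TensorProduct.tmul_mul_tmul]

theorem dg_coact (x : R ⊗[k] O) : (dg k O R).coact x = diagAlg hmul hone x := by
  induction x using TensorProduct.induction_on with
  | zero => simp
  | add x x' hx hx' => simp only [map_add, hx, hx']
  | tmul r b =>
    rw [ComodTens.tensor_coact_tmul, tttc_mul, diagAlg, Algebra.TensorProduct.lift_tmul]
    rfl

include hmul hone in
theorem dg_mul (x y : R ⊗[k] O) :
    (dg k O R).coact (x * y) = (dg k O R).coact x * (dg k O R).coact y := by
  rw [dg_coact hmul hone, dg_coact hmul hone, dg_coact hmul hone, map_mul]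

include hmul hone in
theorem dg_one : (dg k O R).coact (1 : R ⊗[k] O) = 1 := by
  rw [dg_coact hmul hone, map_one]

variable (k O R) in
/-- evaluation at the unit element of the group: `r ⊗ b ↦ ε(b) r`. -/
noncomputable def evR : R ⊗[k] O →ₐ[k] R :=
  Algebra.TensorProduct.lift (AlgHom.id k R)
    ((Algebra.ofId k R).comp (Bialgebra.counitAlgHom k O)) (fun _ _ => Commute.all _ _)

theorem evR_comp_includeLeft :
    (evR k O R).comp Algebra.TensorProduct.includeLeft = AlgHom.id k R :=
  Algebra.TensorProduct.lift_comp_includeLeft _ _ (fun _ _ => Commute.all _ _)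

theorem evR_comp_includeRight :
    (evR k O R).comp Algebra.TensorProduct.includeRight =
      (Algebra.ofId k R).comp (Bialgebra.counitAlgHom k O) :=
  Algebra.TensorProduct.lift_comp_includeRight _ _ (fun _ _ => Commute.all _ _)

theorem counit_map_comul (b : O) :
    Algebra.TensorProduct.map ((Algebra.ofId k R).comp (Bialgebra.counitAlgHom k O))
      (AlgHom.id k O) (CoalgebraStruct.comul (R := k) b) = (1 : R) ⊗ₜ[k] b := by
  have h := LinearMap.congr_fun (Coalgebra.rTensor_counit_comp_comul (R := k) (A := O)) b
  simp only [LinearMap.comp_apply, TensorProduct.mk_apply] at h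
  have h2 : ∀ z : O ⊗[k] O,
      Algebra.TensorProduct.map ((Algebra.ofId k R).comp (Bialgebra.counitAlgHom k O))
        (AlgHom.id k O) z =
      Algebra.TensorProduct.map (Algebra.ofId k R) (AlgHom.id k O)
        (LinearMap.rTensor O (CoalgebraStruct.counit (R := k) (A := O)) z) := by
    intro z
    induction z using TensorProduct.induction_on with
    | zero => simp
    | tmul a c => simp
    | add a c ha hc => simp only [map_add, ha, hc]
  rw [h2, h]
  simp

/-- `(evR ⊗ id) ∘ diag = Φ`. -/
theorem evR_map_comp_diagAlg :
    (Algebra.TensorProduct.map (evR k O R) (AlgHom.id k O)).comp (diagAlg hmul hone) =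
      Shear.Phi hmul hone := by
  apply Algebra.TensorProduct.ext
  · unfold diagAlg Shear.Phi
    rw [AlgHom.comp_assoc, Algebra.TensorProduct.lift_comp_includeLeft,
      Algebra.TensorProduct.lift_comp_includeLeft, ← AlgHom.comp_assoc,
      ← map_comp_id', evR_comp_includeLeft,
      Algebra.TensorProduct.map_id, AlgHom.id_comp]
  · ext b
    unfold diagAlg Shear.Phi
    simp only [AlgHom.comp_apply, AlgHom.coe_restrictScalars',
      Algebra.TensorProduct.includeRight_apply, Algebra.TensorProduct.lift_tmul, map_one, one_mul]
    have h1 : Algebra.TensorProduct.map (evR k O R) (AlgHom.id k O)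
        (Algebra.TensorProduct.map (Algebra.TensorProduct.includeRight : O →ₐ[k] R ⊗[k] O)
          (AlgHom.id k O) ((Bialgebra.comulAlgHom k O) b)) =
        Algebra.TensorProduct.map ((evR k O R).comp Algebra.TensorProduct.includeRight)
          (AlgHom.id k O) (CoalgebraStruct.comul (R := k) b) := by
      rw [map_comp_id']
      rfl
    rw [h1, evR_comp_includeRight, counit_map_comul]

end Diag

end Groth.Agent.Lib.Helper84.Obs
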