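import Mathlib
import Groth.Agent.Lib.Helper84.Obs.TransferB

/-!
# The transfer principle, Hopf side, part C (helper84)

The shear map intertwines the diagonal coaction on `R ⊗ O` with `id ⊗ Δ`; the invariants of the
diagonal coaction are the elements `(id ⊗ S) δ(a)`.
-/

set_option autoImplicit false
set_option linter.unusedSectionVars false
universe u v w w'
open TensorProduct

namespace Groth.Agent.Lib.Helper84.Obs

open Groth.Agent.H40 Groth.Agent.Lib.Helper84

section Inv

variable {k : Type u} [Field k] {O : Type v} [CommRing O] [HopfAlgebra k O]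
  {R : Type w} [CommRing R] [Algebra k R] [HopfRep.Comod k O R]
  (hmul : ∀ x y : R, HopfRep.Comod.coact (k := k) (A := O) (x * y) =
    HopfRep.Comod.coact (k := k) (A := O) x * HopfRep.Comod.coact (k := k) (A := O) y)
  (hone : HopfRep.Comod.coact (k := k) (A := O) (1 : R) = 1)

variable (k O R) in
/-- `id ⊗ Δ : R ⊗ O → (R ⊗ O) ⊗ O`. -/
noncomputable def D0 : R ⊗[k] O →ₐ[k] (R ⊗[k] O) ⊗[k] O :=
  Algebra.TensorProduct.lift
    ((Algebra.TensorProduct.includeLeft : R ⊗[k] O →ₐ[k] (R ⊗[k] O) ⊗[k] O).comp
      (Algebra.TensorProduct.includeLeft : R →ₐ[k] R ⊗[k] O))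
    ((Algebra.TensorProduct.map (Algebra.TensorProduct.includeRight : O →ₐ[k] R ⊗[k] O)
      (AlgHom.id k O)).comp (Bialgebra.comulAlgHom k O))
    (fun _ _ => Commute.all _ _)

theorem D0_aux (r : R) (w : O ⊗[k] O) :
    (((r ⊗ₜ[k] (1 : O)) ⊗ₜ[k] (1 : O) : (R ⊗[k] O) ⊗[k] O)) *
      Algebra.TensorProduct.map (Algebra.TensorProduct.includeRight : O →ₐ[k] R ⊗[k] O)
        (AlgHom.id k O) w = (TensorProduct.assoc k R O O).symm (r ⊗ₜ[k] w) := by
  induction w using TensorProduct.induction_on with
  | zero => simp
  | tmul a c => simp [Algebra.TensorProduct.tmul_mul_tmul]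
  | add a c ha hc => simp only [map_add, mul_add, ha, hc, TensorProduct.tmul_add]

theorem D0_apply (z : R ⊗[k] O) :
    D0 k O R z = (TensorProduct.assoc k R O O).symm
      (LinearMap.lTensor R (CoalgebraStruct.comul (R := k) (A := O)) z) := by
  induction z using TensorProduct.induction_on with
  | zero => simp
  | tmul r c =>
    rw [D0, Algebra.TensorProduct.lift_tmul, LinearMap.lTensor_tmul, ← D0_aux]
    rfl
  | add a c ha hc => simp only [map_add, ha, hc]

/-- **the shear map intertwines the diagonal coaction with `id ⊗ Δ`.** -/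
theorem D0_comp_Phi :
    (D0 k O R).comp (Shear.Phi hmul hone) =
      (Algebra.TensorProduct.map (Shear.Phi hmul hone) (AlgHom.id k O)).comp
        (diagAlg hmul hone) := by
  apply Algebra.TensorProduct.ext
  · have h1 : (Shear.Phi hmul hone).comp Algebra.TensorProduct.includeLeft =
        Shear.coactAlg hmul hone := by
      unfold Shear.Phi
      exact Algebra.TensorProduct.lift_comp_includeLeft _ _ (fun _ _ => Commute.all _ _)
    have h2 : (diagAlg hmul hone).comp Algebra.TensorProduct.includeLeft =
        (Algebra.TensorProduct.map (Algebra.TensorProduct.includeLeft : R →ₐ[k] R ⊗[k] O)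
          (AlgHom.id k O)).comp (Shear.coactAlg hmul hone) := by
      unfold diagAlg
      exact Algebra.TensorProduct.lift_comp_includeLeft _ _ (fun _ _ => Commute.all _ _)
    rw [AlgHom.comp_assoc, h1, AlgHom.comp_assoc, h2, ← AlgHom.comp_assoc, ← map_comp_id', h1]
    ext r
    rw [AlgHom.comp_apply, AlgHom.comp_apply, D0_apply, map_eq_rTensor']
    show _ = LinearMap.rTensor O (HopfRep.Comod.coact (k := k) (A := O))
      (HopfRep.Comod.coact (k := k) (A := O) r)
    rw [LinearEquiv.symm_apply_eq]
    exact (Shear.coassoc_apply r).symm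
  · have h1 : (Shear.Phi hmul hone).comp Algebra.TensorProduct.includeRight =
        Algebra.TensorProduct.includeRight := by
      unfold Shear.Phi
      exact Algebra.TensorProduct.lift_comp_includeRight _ _ (fun _ _ => Commute.all _ _)
    have h2 : (diagAlg hmul hone).comp Algebra.TensorProduct.includeRight =
        (Algebra.TensorProduct.map (Algebra.TensorProduct.includeRight : O →ₐ[k] R ⊗[k] O)
          (AlgHom.id k O)).comp (Bialgebra.comulAlgHom k O) := by
      unfold diagAlg
      exact Algebra.TensorProduct.lift_comp_includeRight _ _ (fun _ _ => Commute.all _ _)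
    have h3 : (D0 k O R).comp Algebra.TensorProduct.includeRight =
        (Algebra.TensorProduct.map (Algebra.TensorProduct.includeRight : O →ₐ[k] R ⊗[k] O)
          (AlgHom.id k O)).comp (Bialgebra.comulAlgHom k O) := by
      unfold D0
      exact Algebra.TensorProduct.lift_comp_includeRight _ _ (fun _ _ => Commute.all _ _)
    show ((D0 k O R).comp (Shear.Phi hmul hone)).comp Algebra.TensorProduct.includeRight =
      ((Algebra.TensorProduct.map (Shear.Phi hmul hone) (AlgHom.id k O)).comp
        (diagAlg hmul hone)).comp Algebra.TensorProduct.includeRight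
    rw [AlgHom.comp_assoc, h1, AlgHom.comp_assoc, h2, ← AlgHom.comp_assoc, ← map_comp_id', h1, h3]

/-- `(id ⊗ S) δ(a)`. -/
noncomputable def theta (a : R) : R ⊗[k] O :=
  LinearMap.lTensor R (HopfAlgebra.antipode k (A := O)) (HopfRep.Comod.coact (k := k) (A := O) a)

theorem Psi_tmul_one (a : R) : Shear.Psi hmul hone (a ⊗ₜ[k] (1 : O)) = theta a := by
  rw [Shear.Psi_tmul, ← Algebra.TensorProduct.one_def, mul_one]
  rfl

include hmul hone in
/-- an invariant of the diagonal coaction is `theta` of its value at the unit element. -/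
theorem eq_theta_of_dg_inv (x : R ⊗[k] O)
    (hx : (dg k O R).coact x = x ⊗ₜ[k] (1 : O)) : x = theta (evR k O R x) := by
  have h1 : Shear.Phi hmul hone x = evR k O R x ⊗ₜ[k] (1 : O) := by
    rw [← evR_map_comp_diagAlg hmul hone, AlgHom.comp_apply, ← dg_coact hmul hone, hx]
    rfl
  have h2 := congrArg (Shear.Psi hmul hone) h1
  rw [← AlgHom.comp_apply, Shear.Psi_comp_Phi, AlgHom.id_apply, Psi_tmul_one] at h2
  exact h2

include hmul hone in
/-- `theta a` is an invariant of the diagonal coaction. -/
theorem dg_theta (a : R) : (dg k O R).coact (theta a) = theta a ⊗ₜ[k] (1 : O) := by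
  rw [dg_coact hmul hone, ← Psi_tmul_one hmul hone]
  have hinj : Function.Injective
      (Algebra.TensorProduct.map (Shear.Phi hmul hone) (AlgHom.id k O)) := by
    intro p q hpq
    have := congrArg (Algebra.TensorProduct.map (Shear.Psi hmul hone) (AlgHom.id k O)) hpq
    rw [← AlgHom.comp_apply, ← AlgHom.comp_apply, ← map_comp_id', Shear.Psi_comp_Phi,
      Algebra.TensorProduct.map_id] at this
    exact this
  apply hinj
  have hPP : ∀ z, Shear.Phi hmul hone (Shear.Psi hmul hone z) = z := by
    intro z
    rw [← AlgHom.comp_apply, Shear.Phi_comp_Psi, AlgHom.id_apply]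
  rw [← AlgHom.comp_apply, ← D0_comp_Phi, AlgHom.comp_apply, hPP,
    Algebra.TensorProduct.map_tmul, hPP]
  rw [D0, Algebra.TensorProduct.lift_tmul]
  simp

theorem evR_theta (a : R) : evR k O R (theta a) = a := by
  have h := Shear.counit_apply (k := k) (H := O) a
  have key : ∀ z : R ⊗[k] O,
      evR k O R (LinearMap.lTensor R (HopfAlgebra.antipode k (A := O)) z) =
        TensorProduct.rid k R
          (LinearMap.lTensor R (CoalgebraStruct.counit (R := k) (A := O)) z) := by
    intro z
    induction z using TensorProduct.induction_on with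
    | zero => simp
    | tmul r c =>
      simp [evR, Algebra.ofId_apply, Algebra.algebraMap_eq_smul_one]
    | add a c ha hc => simp only [map_add, ha, hc]
  unfold theta
  rw [key, h]
  simp

end Inv

end Groth.Agent.Lib.Helper84.Obs
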