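import Mathlib
import Groth.Agent.Lib.Helper84.Obs.TransferC

/-!
# The transfer principle, Hopf side, part D (helper84)

`a ∈ R` is fixed by the "subgroup" `π` iff `(id ⊗ S) δ(a)` lies in `R ⊗ invSub' π`.
-/

set_option autoImplicit false
set_option linter.unusedSectionVars false
universe u v w w'
open TensorProduct

namespace Groth.Agent.Lib.Helper84.Obs

open Groth.Agent.H40 Groth.Agent.Lib.Helper84

section Fix

variable {k : Type u} [Field k] {O : Type v} [CommRing O] [HopfAlgebra k O]
  {C : Type w'} [CommRing C] [Algebra k C] (π : O →ₐ[k] C)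
  {R : Type w} [AddCommGroup R] [Module k R] [HopfRep.Comod k O R]

/-- an invariant function takes the value `ε(b)` on the "subgroup". -/
theorem apply_eq_counit_of_isRInv (b : O) (hb : IsRInv π b) :
    π b = CoalgebraStruct.counit (R := k) b • (1 : C) := by
  unfold IsRInv at hb
  have h := congrArg (lslice (CoalgebraStruct.counit (R := k) (A := O))) hb
  rw [lslice_lTensor, lslice_tmul] at h
  have h2 := coeffMap_counit (k := k) b
  rw [coeffMap_apply] at h2
  have h3 : lslice (CoalgebraStruct.counit (R := k) (A := O)) (CoalgebraStruct.comul (R := k) b)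
      = b := h2
  rw [h3] at h
  exact h

/-- a vector all of whose matrix coefficients are invariant functions is fixed. -/
theorem isFix_of_coeff (a : R) (h : ∀ ψ : R →ₗ[k] k, IsRInv π (coeffMap (C := O) ψ a)) :
    IsFix π a := by
  unfold IsFix
  rw [← sub_eq_zero]
  apply eq_zero_of_forall_lslice
  intro ψ
  rw [map_sub, lslice_lTensor, lslice_tmul, ← coeffMap_apply]
  show π (coeffMap (C := O) ψ a) - ψ a • (1 : C) = 0
  rw [apply_eq_counit_of_isRInv π _ (h ψ), counit_coeffMap, sub_self]

theorem isFix_iff_coeff' (a : R) :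
    IsFix π a ↔ ∀ ψ : R →ₗ[k] k, IsRInv π (coeffMap (C := O) ψ a) :=
  ⟨fun h ψ => isRInv_coeffMap π a h ψ, isFix_of_coeff π a⟩

theorem isFix_iff_coact_mem (a : R) :
    IsFix π a ↔ HopfRep.Comod.coact (k := k) (A := O) a ∈
      LinearMap.range (LinearMap.lTensor R (Subalgebra.toSubmodule (invSub π)).subtype) := by
  rw [isFix_iff_coeff', mem_range_lTensor_subtype_iff]
  constructor
  · intro h ψ
    exact (mem_invSub_iff π _).2 (h ψ)
  · intro h ψ
    exact (mem_invSub_iff π _).1 (h ψ)

theorem lTensor_antiRes (y : R ⊗[k] ↥(Subalgebra.toSubmodule (invSub π))) :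
    LinearMap.lTensor R (Subalgebra.toSubmodule (invSub' π)).subtype
        (LinearMap.lTensor R (antiRes π) y) =
      LinearMap.lTensor R (HopfAlgebra.antipode k (A := O))
        (LinearMap.lTensor R (Subalgebra.toSubmodule (invSub π)).subtype y) := by
  induction y using TensorProduct.induction_on with
  | zero => simp
  | tmul a c => simp [antiRes]
  | add a c ha hc => simp only [map_add, ha, hc]

theorem lTensor_antiRes' (y : R ⊗[k] ↥(Subalgebra.toSubmodule (invSub' π))) :
    LinearMap.lTensor R (Subalgebra.toSubmodule (invSub π)).subtype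
        (LinearMap.lTensor R (antiRes' π) y) =
      LinearMap.lTensor R (HopfAlgebra.antipode k (A := O))
        (LinearMap.lTensor R (Subalgebra.toSubmodule (invSub' π)).subtype y) := by
  induction y using TensorProduct.induction_on with
  | zero => simp
  | tmul a c => simp [antiRes']
  | add a c ha hc => simp only [map_add, ha, hc]

theorem lTensor_antipode_antipode (z : R ⊗[k] O) :
    LinearMap.lTensor R (HopfAlgebra.antipode k (A := O))
      (LinearMap.lTensor R (HopfAlgebra.antipode k (A := O)) z) = z := by
  induction z using TensorProduct.induction_on with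
  | zero => simp
  | tmul a c => simp [antipode_antipode']
  | add a c ha hc => simp only [map_add, ha, hc]

end Fix

section Fix2

variable {k : Type u} [Field k] {O : Type v} [CommRing O] [HopfAlgebra k O]
  {C : Type w'} [CommRing C] [Algebra k C] (π : O →ₐ[k] C)
  {R : Type w} [CommRing R] [Algebra k R] [HopfRep.Comod k O R]

/-- **`a` is fixed by `π` iff `(id ⊗ S) δ(a) ∈ R ⊗ invSub' π`.** -/
theorem isFix_iff_theta_mem (a : R) :
    IsFix π a ↔ theta (O := O) a ∈
      LinearMap.range (LinearMap.lTensor R (Subalgebra.toSubmodule (invSub' π)).subtype) := by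
  rw [isFix_iff_coact_mem]
  constructor
  · rintro ⟨y, hy⟩
    refine ⟨LinearMap.lTensor R (antiRes π) y, ?_⟩
    rw [lTensor_antiRes, hy]
    try rfl
  · rintro ⟨y, hy⟩
    refine ⟨LinearMap.lTensor R (antiRes' π) y, ?_⟩
    rw [lTensor_antiRes', hy]
    unfold theta
    rw [lTensor_antipode_antipode]

end Fix2

end Groth.Agent.Lib.Helper84.Obs
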