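import Mathlib
import Groth.Agent.Lib.Helper84.Obs.TransferD

/-!
# The transfer principle, Hopf side, part E (helper84)

The comodule algebra `R ⊗ invSub' π` and the surjection of its invariants onto the `π`-fixed
elements of `R`.
-/

set_option autoImplicit false
set_option linter.unusedSectionVars false
universe u v w w'
open TensorProduct

namespace Groth.Agent.Lib.Helper84.Obs

open Groth.Agent.H40 Groth.Agent.Lib.Helper84

section Alg

variable {k : Type u} [Field k] {O : Type v} [CommRing O] [HopfAlgebra k O]
  {C : Type w'} [CommRing C] [Algebra k C] (π : O →ₐ[k] C)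
  {R : Type w} [CommRing R] [Algebra k R] [HopfRep.Comod k O R]
  (hmul : ∀ x y : R, HopfRep.Comod.coact (k := k) (A := O) (x * y) =
    HopfRep.Comod.coact (k := k) (A := O) x * HopfRep.Comod.coact (k := k) (A := O) y)
  (hone : HopfRep.Comod.coact (k := k) (A := O) (1 : R) = 1)

/-- the comodule structure on `invSub' π` (right translations). -/
@[reducible] noncomputable def cB' : HopfRep.Comod k O ↥(Subalgebra.toSubmodule (invSub' π)) :=
  ComodSub.Comod.restr (HopfRep.Comod.regular k O) _ (isSubcomod_invSub' π)

variable (R) in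
/-- `R ⊗ B'` with `B'` seen as a submodule or as a subalgebra. -/
noncomputable def eqv :
    R ⊗[k] ↥(Subalgebra.toSubmodule (invSub' π)) ≃ₗ[k] R ⊗[k] ↥(invSub' π) :=
  TensorProduct.congr (LinearEquiv.refl k R) (Subalgebra.toSubmoduleEquiv (invSub' π))

variable (R) in
/-- the comodule structure on the algebra `R ⊗ invSub' π`. -/
@[reducible] noncomputable def cT : HopfRep.Comod k O (R ⊗[k] ↥(invSub' π)) :=
  ComodTens.Comod.ofEquiv (eqv π R)
    (ComodTens.Comod.tensor (inferInstance : HopfRep.Comod k O R) (cB' π))

variable (R) in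
/-- the inclusion `R ⊗ invSub' π → R ⊗ O`. -/
noncomputable def iota : R ⊗[k] ↥(invSub' π) →ₐ[k] R ⊗[k] O :=
  Algebra.TensorProduct.map (AlgHom.id k R) (invSub' π).val

theorem coe_toSubmoduleEquiv' {A : Type v} [CommRing A] [Algebra k A] (S : Subalgebra k A)
    (c : ↥(Subalgebra.toSubmodule S)) : ((S.toSubmoduleEquiv c : ↥S) : A) = (c : A) := rfl

theorem iota_eqv (y : R ⊗[k] ↥(Subalgebra.toSubmodule (invSub' π))) :
    iota π R (eqv π R y) =
      LinearMap.lTensor R (Subalgebra.toSubmodule (invSub' π)).subtype y := by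
  induction y using TensorProduct.induction_on with
  | zero => simp
  | tmul a c => simp [iota, eqv, coe_toSubmoduleEquiv']
  | add a c ha hc => simp only [map_add, ha, hc]

theorem iota_injective : Function.Injective (iota π R) := by
  have h : ∀ z, iota π R z = LinearMap.lTensor R (invSub' π).val.toLinearMap z :=
    fun z => map_id_eq_lTensor' _ z
  have hinj : Function.Injective (LinearMap.lTensor R (invSub' π).val.toLinearMap) :=
    Module.Flat.lTensor_preserves_injective_linearMap _ Subtype.val_injective
  intro x y hxy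
  rw [h, h] at hxy
  exact hinj hxy

theorem range_iota (x : R ⊗[k] O) :
    x ∈ Set.range (iota π R) ↔
      x ∈ LinearMap.range (LinearMap.lTensor R (Subalgebra.toSubmodule (invSub' π)).subtype) := by
  constructor
  · rintro ⟨z, rfl⟩
    obtain ⟨y, rfl⟩ := (eqv π R).surjective z
    exact ⟨y, (iota_eqv π y).symm⟩
  · rintro ⟨y, rfl⟩
    exact ⟨eqv π R y, iota_eqv π y⟩

theorem cT_aux (X : R ⊗[k] O) (Y : ↥(Subalgebra.toSubmodule (invSub' π)) ⊗[k] O) :
    LinearMap.rTensor O (iota π R).toLinearMap
      (LinearMap.rTensor O (eqv π R : _ →ₗ[k] _)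
        (TensorProduct.map LinearMap.id (LinearMap.mul' k O)
          (AlgebraTensorModule.tensorTensorTensorComm k k k k R O _ O (X ⊗ₜ[k] Y)))) =
    TensorProduct.map LinearMap.id (LinearMap.mul' k O)
      (AlgebraTensorModule.tensorTensorTensorComm k k k k R O O O
        (X ⊗ₜ[k] LinearMap.rTensor O (Subalgebra.toSubmodule (invSub' π)).subtype Y)) := by
  induction X using TensorProduct.induction_on with
  | zero => simp
  | add x x' hx hx' => simp only [TensorProduct.add_tmul, map_add, hx, hx']
  | tmul r a =>
    induction Y using TensorProduct.induction_on with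
    | zero => simp
    | add y y' hy hy' => simp only [TensorProduct.tmul_add, map_add, hy, hy']
    | tmul b c => simp [iota, eqv, coe_toSubmoduleEquiv']

/-- the inclusion intertwines the coaction of `R ⊗ invSub' π` with the diagonal coaction. -/
theorem cT_coact (x : R ⊗[k] ↥(invSub' π)) :
    LinearMap.rTensor O (iota π R).toLinearMap ((cT π R).coact x) =
      (dg k O R).coact (iota π R x) := by
  obtain ⟨v, rfl⟩ := (eqv π R).surjective x
  rw [ComodTens.ofEquiv_coact_apply]
  induction v using TensorProduct.induction_on with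
  | zero => simp
  | add x x' hx hx' => simp only [map_add, hx, hx']
  | tmul r b =>
    rw [ComodTens.tensor_coact_tmul, cT_aux, ComodSub.restr_coact_coe, iota_eqv,
      LinearMap.lTensor_tmul]
    rfl

theorem rTensor_iota_injective :
    Function.Injective (LinearMap.rTensor O (iota π R).toLinearMap) :=
  Module.Flat.rTensor_preserves_injective_linearMap _ (iota_injective π)

include hmul hone in
theorem cT_mul (x y : R ⊗[k] ↥(invSub' π)) :
    (cT π R).coact (x * y) = (cT π R).coact x * (cT π R).coact y := by
  apply rTensor_iota_injective π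
  rw [cT_coact, map_mul, dg_mul hmul hone, ← cT_coact, ← cT_coact, ← map_eq_rTensor',
    ← map_eq_rTensor', ← map_eq_rTensor', map_mul]

include hmul hone in
theorem cT_one : (cT π R).coact (1 : R ⊗[k] ↥(invSub' π)) = 1 := by
  apply rTensor_iota_injective π
  rw [cT_coact, map_one, dg_one hmul hone, ← map_eq_rTensor', map_one]

include hmul hone in
/-- **transfer, first half**: invariants of `R ⊗ invSub' π` evaluate to `π`-fixed elements. -/
theorem transfer_isFix (F : R ⊗[k] ↥(invSub' π))
    (hF : (cT π R).coact F = F ⊗ₜ[k] (1 : O)) : IsFix π (evR k O R (iota π R F)) := by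
  have h1 : (dg k O R).coact (iota π R F) = iota π R F ⊗ₜ[k] (1 : O) := by
    rw [← cT_coact, hF, LinearMap.rTensor_tmul]
    rfl
  have h2 := eq_theta_of_dg_inv hmul hone _ h1
  rw [isFix_iff_theta_mem, ← h2, ← range_iota]
  exact ⟨F, rfl⟩

include hmul hone in
/-- **transfer, second half**: every `π`-fixed element is the value of an invariant. -/
theorem transfer_surj (a : R) (ha : IsFix π a) :
    ∃ F : R ⊗[k] ↥(invSub' π), (cT π R).coact F = F ⊗ₜ[k] (1 : O) ∧
      evR k O R (iota π R F) = a := by
  obtain ⟨F, hF⟩ := (range_iota π _).2 ((isFix_iff_theta_mem π a).1 ha)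
  refine ⟨F, ?_, ?_⟩
  · apply rTensor_iota_injective π
    rw [cT_coact, hF, dg_theta hmul hone, LinearMap.rTensor_tmul, ← hF]
    rfl
  · rw [hF, evR_theta]

/-- finite generation of `R ⊗ invSub' π`. -/
theorem finiteType_tensor_invSub' [Algebra.FiniteType k R] (hfg : (invSub π).FG) :
    Algebra.FiniteType k (R ⊗[k] ↥(invSub' π)) := by
  have h1 : (invSub' π).FG := hfg.map _
  have h2 : Algebra.FiniteType k ↥(invSub' π) := (Subalgebra.fg_iff_finiteType _).1 h1
  have h3 : Algebra.FiniteType R (R ⊗[k] ↥(invSub' π)) := inferInstance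
  exact Algebra.FiniteType.trans (S := R) inferInstance h3

end Alg

end Groth.Agent.Lib.Helper84.Obs
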