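import Mathlib
import Groth.Agent.Lib.Helper84.Obs.TransferE
import Groth.Agent.Lib.Helper84.Obs.PtV
import Groth.Agent.Lib.Helper84.Obs.Char
import Groth.Prelude.Def_W4bk4grossh1223Act

/-!
# The transfer principle, scheme side (helper84)

Multiplicative rational actions and multiplicative coactions; invariants under a subgroup in terms
of the Hopf algebras.
-/

set_option autoImplicit false
set_option linter.unusedSectionVars false
universe u
open CategoryTheory MonoidalCategory CartesianMonoidalCategory MonObj GrpObj AlgebraicGeometry Opposite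
open CoactBr Limits TensorProduct

namespace Groth.Agent.Lib.Helper84.Obs

open Groth.Agent.Lib.Helper84.GModComod

section Mult

variable {k : Type u} [Field k]
variable {G : Over (Spec (CommRingCat.of k))} [GrpObj G]
variable {V : Type u} [CommRing V] [Algebra k V]

/-- multiplicativity of a rational action may be checked on the elements `1 ⊗ v`. -/
theorem isMult_of_one_tmul (ρ : VecGrp.GMod G V)
    (h : ∀ (B : Type u) [CommRing B] [Algebra k B] (g : VecGrp.pt k B ⟶ G),
      (∀ v v' : V, ρ.ρ B g ((1 : B) ⊗ₜ[k] (v * v')) =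
        ρ.ρ B g ((1 : B) ⊗ₜ[k] v) * ρ.ρ B g ((1 : B) ⊗ₜ[k] v')) ∧
      ρ.ρ B g ((1 : B) ⊗ₜ[k] (1 : V)) = 1) : ρ.IsMult := by
  intro B _ _ g
  refine ⟨?_, ?_⟩
  · intro x y
    induction x using TensorProduct.induction_on with
    | zero => simp
    | add x x' hx hx' => rw [add_mul, map_add, map_add, hx, hx', add_mul]
    | tmul b v =>
      induction y using TensorProduct.induction_on with
      | zero => simp
      | add y y' hy hy' => rw [mul_add, map_add, map_add, hy, hy', mul_add]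
      | tmul b' v' =>
        have e1 : (b ⊗ₜ[k] v : B ⊗[k] V) = b • ((1 : B) ⊗ₜ[k] v) := by
          rw [TensorProduct.smul_tmul', smul_eq_mul, _root_.mul_one]
        have e2 : (b' ⊗ₜ[k] v' : B ⊗[k] V) = b' • ((1 : B) ⊗ₜ[k] v') := by
          rw [TensorProduct.smul_tmul', smul_eq_mul, _root_.mul_one]
        have e3 : ((b ⊗ₜ[k] v) * (b' ⊗ₜ[k] v') : B ⊗[k] V) =
            (b * b') • ((1 : B) ⊗ₜ[k] (v * v')) := by
          rw [Algebra.TensorProduct.tmul_mul_tmul, TensorProduct.smul_tmul', smul_eq_mul,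
            _root_.mul_one]
        show (ρ.ρ B g) ((b ⊗ₜ[k] v) * (b' ⊗ₜ[k] v') : B ⊗[k] V) =
          ((ρ.ρ B g) (b ⊗ₜ[k] v) * (ρ.ρ B g) (b' ⊗ₜ[k] v') : B ⊗[k] V)
        rw [e3, e1, e2, map_smul, map_smul, map_smul, (h B g).1, smul_mul_smul_comm]
  · have := (h B g).2
    rwa [← Algebra.TensorProduct.one_def] at this

end Mult

section GModOnMult

variable {k : Type u} [Field k]
variable {G : Over (Spec (CommRingCat.of k))} [GrpObj G]
variable {A : Type u} [CommRing A] [HopfAlgebra k A] (e : sp k A ≅ G) [IsMonHom e.hom]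
variable {V : Type u} [CommRing V] [Algebra k V]

/-- the rational action attached to a comodule algebra is multiplicative. -/
theorem gmodOn_isMult (c : HopfRep.Comod k A V)
    (hmul : ∀ x y : V, c.coact (x * y) = c.coact x * c.coact y) (hone : c.coact (1 : V) = 1) :
    (gmodOn e c).IsMult := by
  apply isMult_of_one_tmul
  intro B _ _ g
  obtain ⟨x, rfl⟩ := exists_yV e g
  let cAlg : V →ₐ[k] V ⊗[k] A := AlgHom.ofLinearMap c.coact hone hmul
  let τ : V →ₐ[k] B ⊗[k] V :=
    ((Algebra.TensorProduct.comm k V B) : V ⊗[k] B →ₐ[k] B ⊗[k] V).comp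
      ((Algebra.TensorProduct.map (AlgHom.id k V) x).comp cAlg)
  have hτ : ∀ v : V, (gmodOn e c).ρ B (yV e x) ((1 : B) ⊗ₜ[k] v) = τ v := by
    intro v
    rw [gmodOn_yV_one_tmul]
    show _ = (Algebra.TensorProduct.comm k V B)
      (Algebra.TensorProduct.map (AlgHom.id k V) x (c.coact v))
    rw [map_id_eq_lTensor']
    rfl
  refine ⟨?_, ?_⟩
  · intro v v'
    rw [hτ, hτ, hτ, map_mul]
  · rw [hτ, map_one]

end GModOnMult

section ComodOfMult

variable {k : Type u} [Field k]
variable {G : Over (Spec (CommRingCat.of k))} [GrpObj G]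
variable {A : Type u} [CommRing A] [HopfAlgebra k A] (e : sp k A ≅ G) [IsMonHom e.hom]
variable {V : Type u} [CommRing V] [Algebra k V] (ρ : VecGrp.GMod G V)

theorem comodOf_coact_eq (v : V) :
    (comodOf e ρ).coact v =
      (Algebra.TensorProduct.comm k V A).symm
        (ρ.ρ A (yV e (AlgHom.id k A)) ((1 : A) ⊗ₜ[k] v)) := by
  have h := rho_yOf_one_tmul e ρ A (AlgHom.id k A) v
  have h2 : LinearMap.lTensor V (AlgHom.id k A).toLinearMap ((comodOf e ρ).coact v) =
      (comodOf e ρ).coact v := by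
    have : (AlgHom.id k A).toLinearMap = LinearMap.id := rfl
    rw [this, LinearMap.lTensor_id, LinearMap.id_apply]
  rw [h2] at h
  show _ = (Algebra.TensorProduct.comm k V A).symm
    (ρ.ρ A (yOf e (AlgHom.id k A)) ((1 : A) ⊗ₜ[k] v))
  rw [h]
  exact ((Algebra.TensorProduct.comm k V A).symm_apply_apply _).symm

/-- the comodule attached to a multiplicative rational action is a comodule algebra. -/
theorem comodOf_mul (hρ : ρ.IsMult) (x y : V) :
    (comodOf e ρ).coact (x * y) = (comodOf e ρ).coact x * (comodOf e ρ).coact y := by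
  rw [comodOf_coact_eq, comodOf_coact_eq, comodOf_coact_eq, ← map_mul]
  congr 1
  have e1 : ((1 : A) ⊗ₜ[k] (x * y) : A ⊗[k] V) = ((1 : A) ⊗ₜ[k] x) * ((1 : A) ⊗ₜ[k] y) := by
    rw [Algebra.TensorProduct.tmul_mul_tmul, _root_.one_mul]
  rw [e1]
  exact (hρ A (yV e (AlgHom.id k A))).1 _ _

theorem comodOf_one (hρ : ρ.IsMult) : (comodOf e ρ).coact (1 : V) = 1 := by
  rw [comodOf_coact_eq]
  have h := (hρ A (yV e (AlgHom.id k A))).2
  rw [← Algebra.TensorProduct.one_def]
  have h' : (ρ.ρ A (yV e (AlgHom.id k A))) (1 : A ⊗[k] V) = (1 : A ⊗[k] V) := h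
  rw [h', map_one]

end ComodOfMult

section Fixed

variable {k : Type u} [Field k]
variable {G H : Over (Spec (CommRingCat.of k))} [GrpObj G] [GrpObj H]
variable {A : Type u} [CommRing A] [HopfAlgebra k A] (e : sp k A ≅ G) [IsMonHom e.hom]
variable {C : Type u} [CommRing C] [HopfAlgebra k C] (eH : sp k C ≅ H) [IsMonHom eH.hom]
variable (i : H ⟶ G) (π : A →ₐ[k] C) (hπ : yOf e π = eH.hom ≫ i)
variable {M : Type u} [AddCommGroup M] [Module k M]

include hπ in
/-- invariants under a subgroup, on the Hopf side (generic form). -/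
theorem forall_fix_iff (ρ : VecGrp.GMod G M) (c : HopfRep.Comod k A M)
    (hdict : ∀ (B : Type u) [CommRing B] [Algebra k B] (x : A →ₐ[k] B) (m : M),
      ρ.ρ B (yV e x) ((1 : B) ⊗ₜ[k] m) = (1 : B) ⊗ₜ[k] m ↔
        @IsFix k _ A _ _ B _ _ M _ _ c x m) (m : M) :
    (∀ (B : Type u) [CommRing B] [Algebra k B] (h : VecGrp.pt k B ⟶ H),
      ρ.ρ B (h ≫ i) ((1 : B) ⊗ₜ[k] m) = (1 : B) ⊗ₜ[k] m) ↔
      @IsFix k _ A _ _ C _ _ M _ _ c π m := by
  constructor
  · intro h
    have h1 := h C (eH.hom : VecGrp.pt k C ⟶ H)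
    have h2 : (eH.hom : VecGrp.pt k C ⟶ H) ≫ i = yV e π := yV_univ e eH i π hπ
    refine (hdict C π m).1 ?_
    rw [← h2]
    exact h1
  · intro h B _ _ y
    obtain ⟨z, rfl⟩ := exists_yV eH y
    rw [yV_comp_sub e eH i π hπ z]
    refine (hdict B (z.comp π) m).2 ?_
    exact @isFix_comp k _ A _ _ C _ _ B _ _ M _ _ c π z m h

end Fixed

end Groth.Agent.Lib.Helper84.Obs
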