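import Mathlib
import Groth.Agent.Lib.Helper84.Obs.TransferSch

/-!
# The transfer principle, scheme side, part 2 (helper84)

Invariants under the whole group; finite generation of `k[G]^H` on both sides of the dictionary.
-/

set_option autoImplicit false
set_option linter.unusedSectionVars false
universe u
open CategoryTheory MonoidalCategory CartesianMonoidalCategory MonObj GrpObj AlgebraicGeometry Opposite
open CoactBr Limits TensorProduct

namespace Groth.Agent.Lib.Helper84.Obs

open Groth.Agent.Lib.Helper84.GModComod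

section FixedAll

variable {k : Type u} [Field k]
variable {G : Over (Spec (CommRingCat.of k))} [GrpObj G]
variable {A : Type u} [CommRing A] [HopfAlgebra k A] (e : sp k A ≅ G) [IsMonHom e.hom]
variable {M : Type u} [AddCommGroup M] [Module k M]

/-- the invariants of the whole group are the coinvariants of the comodule. -/
theorem mem_fixedUnder_id_iff (c : HopfRep.Comod k A M) (F : M) :
    F ∈ (gmodOn e c).fixedUnder (𝟙 G) ↔ c.coact F = F ⊗ₜ[k] (1 : A) := by
  constructor
  · intro h
    have h1 : (gmodOn e c).ρ A (yV e (AlgHom.id k A) ≫ 𝟙 G) ((1 : A) ⊗ₜ[k] F) = (1 : A) ⊗ₜ[k] F :=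
      h A (yV e (AlgHom.id k A))
    rw [Category.comp_id] at h1
    have h2 := (gmodOn_yV_fix_iff e c (AlgHom.id k A) F).1 h1
    unfold IsFix at h2
    have : (AlgHom.id k A).toLinearMap = LinearMap.id := rfl
    rw [this, LinearMap.lTensor_id, LinearMap.id_apply] at h2
    exact h2
  · intro h B _ _ y
    obtain ⟨x, rfl⟩ := exists_yV e y
    rw [Category.comp_id]
    refine (gmodOn_yV_fix_iff e c x F).2 ?_
    unfold IsFix
    rw [h, LinearMap.lTensor_tmul]
    simp

end FixedAll

section Const

variable {k : Type u} [Field k]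
variable {G : Over (Spec (CommRingCat.of k))} [GrpObj G]
variable {A : Type u} [CommRing A] [HopfAlgebra k A] (e : sp k A ≅ G) [IsMonHom e.hom]

/-- `valOf` as a ring homomorphism. -/
noncomputable def valHom : Γ(G.left, ⊤) →+* A :=
  (Scheme.ΓSpecIso (CommRingCat.of A)).hom.hom.comp e.hom.left.appTop.hom

theorem valHom_apply (f : Γ(G.left, ⊤)) : valHom e f = valOf e f := rfl

/-- the constant functions. -/
theorem valOf_const (c : k) :
    valOf e (G.hom.appTop ((Scheme.ΓSpecIso (CommRingCat.of k)).inv c)) = algebraMap k A c := by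
  unfold valOf
  have h1 : e.hom.left ≫ G.hom = Spec.map (CommRingCat.ofHom (algebraMap k A)) := Over.w e.hom
  have h2 : e.hom.left.appTop (G.hom.appTop ((Scheme.ΓSpecIso (CommRingCat.of k)).inv c)) =
      (Spec.map (CommRingCat.ofHom (algebraMap k A))).appTop
        ((Scheme.ΓSpecIso (CommRingCat.of k)).inv c) := by
    rw [← h1, Scheme.Hom.comp_appTop]
    rfl
  rw [h2]
  have h3 := Scheme.ΓSpecIso_naturality (CommRingCat.ofHom (algebraMap k A))
  have h4 := congrArg (fun m => m.hom ((Scheme.ΓSpecIso (CommRingCat.of k)).inv c)) h3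
  simp only [CommRingCat.hom_comp, RingHom.comp_apply] at h4
  rw [h4]
  simp

theorem fnOf_const (c : k) :
    fnOf e (algebraMap k A c) = G.hom.appTop ((Scheme.ΓSpecIso (CommRingCat.of k)).inv c) := by
  apply valOf_injective e
  rw [valOf_fnOf, valOf_const]

end Const

section FG

variable {k : Type u} [Field k]
variable {G H : Over (Spec (CommRingCat.of k))} [GrpObj G] [GrpObj H]
variable {A : Type u} [CommRing A] [HopfAlgebra k A] (e : sp k A ≅ G) [IsMonHom e.hom]
variable {C : Type u} [CommRing C] [HopfAlgebra k C] (eH : sp k C ≅ H) [IsMonHom eH.hom]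
variable (i : H ⟶ G) (π : A →ₐ[k] C) (hπ : yOf e π = eH.hom ≫ i)

include hπ in
theorem mem_invSub_iff_rTransInv (f : Γ(G.left, ⊤)) :
    valOf e f ∈ invSub π ↔ f ∈ AGF.rTransInv i := by
  rw [mem_invSub_iff, AGF.mem_rTransInv_iff, isRTransInv_sub_iff e eH i π hπ]

include hπ in
theorem invSub_fg_of_subringFGOver (h : AGF.SubringFGOver k G (AGF.rTransInv i)) :
    (invSub π).FG := by
  classical
  obtain ⟨s, hs, hcl⟩ := h
  refine ⟨s.image (valOf e), ?_⟩
  apply le_antisymm
  · rw [Algebra.adjoin_le_iff]
    intro b hb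
    rw [Finset.coe_image] at hb
    obtain ⟨f, hf, rfl⟩ := hb
    exact (mem_invSub_iff_rTransInv e eH i π hπ f).2 (hs hf)
  · intro b hb
    have h1 : fnOf e b ∈ AGF.rTransInv i := by
      rw [← mem_invSub_iff_rTransInv e eH i π hπ, valOf_fnOf]
      exact hb
    have h2 := hcl h1
    have key : ∀ f ∈ Subring.closure
        (Set.range (fun c : k => G.hom.appTop ((Scheme.ΓSpecIso (CommRingCat.of k)).inv c)) ∪
          (↑s : Set Γ(G.left, ⊤))),
        valOf e f ∈ Algebra.adjoin k (↑(s.image (valOf e)) : Set A) := by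
      intro f hf
      refine Subring.closure_induction (p := fun f _ =>
        valOf e f ∈ Algebra.adjoin k (↑(s.image (valOf e)) : Set A)) ?_ ?_ ?_ ?_ ?_ ?_ hf
      · intro x hx
        rcases hx with ⟨c, rfl⟩ | hx
        · show valOf e (G.hom.appTop ((Scheme.ΓSpecIso (CommRingCat.of k)).inv c)) ∈ _
          rw [valOf_const]
          exact Subalgebra.algebraMap_mem _ _
        · exact Algebra.subset_adjoin (Finset.mem_coe.2 (Finset.mem_image_of_mem _ hx))
      · rw [← valHom_apply, map_zero]
        exact Subalgebra.zero_mem _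
      · rw [← valHom_apply, map_one]
        exact Subalgebra.one_mem _
      · intro x y _ _ hx hy
        rw [← valHom_apply, map_add]
        exact Subalgebra.add_mem _ hx hy
      · intro x _ hx
        rw [← valHom_apply, map_neg]
        exact Subalgebra.neg_mem _ hx
      · intro x y _ _ hx hy
        rw [← valHom_apply, map_mul]
        exact Subalgebra.mul_mem _ hx hy
    have h3 := key _ h2
    rwa [valOf_fnOf] at h3

include hπ in
theorem subringFGOver_of_invSub_fg (h : (invSub π).FG) :
    AGF.SubringFGOver k G (AGF.rTransInv i) := by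
  classical
  obtain ⟨t, ht⟩ := h
  refine ⟨t.image (fnOf e), ?_, ?_⟩
  · intro f hf
    rw [Finset.coe_image] at hf
    obtain ⟨b, hb, rfl⟩ := hf
    have hb' : b ∈ invSub π := by
      rw [← ht]
      exact Algebra.subset_adjoin hb
    rw [SetLike.mem_coe, ← mem_invSub_iff_rTransInv e eH i π hπ, valOf_fnOf]
    exact hb'
  · intro f hf
    have h1 : valOf e f ∈ invSub π := (mem_invSub_iff_rTransInv e eH i π hπ f).2 hf
    rw [← ht] at h1
    have key : ∀ b ∈ Algebra.adjoin k (↑t : Set A), fnOf e b ∈ Subring.closure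
        (Set.range (fun c : k => G.hom.appTop ((Scheme.ΓSpecIso (CommRingCat.of k)).inv c)) ∪
          (↑(t.image (fnOf e)) : Set Γ(G.left, ⊤))) := by
      intro b hb
      refine Algebra.adjoin_induction (p := fun b _ => fnOf e b ∈ Subring.closure
        (Set.range (fun c : k => G.hom.appTop ((Scheme.ΓSpecIso (CommRingCat.of k)).inv c)) ∪
          (↑(t.image (fnOf e)) : Set Γ(G.left, ⊤)))) ?_ ?_ ?_ ?_ hb
      · intro x hx
        exact Subring.subset_closure (Or.inr (Finset.mem_coe.2 (Finset.mem_image_of_mem _ hx)))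
      · intro c
        rw [fnOf_const]
        exact Subring.subset_closure (Or.inl ⟨c, rfl⟩)
      · intro x y _ _ hx hy
        rw [← fnOfHom_apply, map_add]
        exact Subring.add_mem _ hx hy
      · intro x y _ _ hx hy
        rw [← fnOfHom_apply, map_mul]
        exact Subring.mul_mem _ hx hy
    have h3 := key _ h1
    rwa [fnOf_valOf] at h3

end FG

end Groth.Agent.Lib.Helper84.Obs
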