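import Mathlib
import Groth.Agent.Lib.Helper84.Obs.TransferSch2

/-!
# Stable subspaces of the rational module of a comodule (helper84)
-/

set_option autoImplicit false
set_option linter.unusedSectionVars false
universe u
open CategoryTheory MonoidalCategory CartesianMonoidalCategory MonObj GrpObj AlgebraicGeometry Opposite
open CoactBr Limits TensorProduct

namespace Groth.Agent.Lib.Helper84.Obs

open Groth.Agent.Lib.Helper84.GModComod

section

variable {k : Type u} [Field k]
variable {G : Over (Spec (CommRingCat.of k))} [GrpObj G]
variable {A : Type u} [CommRing A] [HopfAlgebra k A] (e : sp k A ≅ G) [IsMonHom e.hom]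
variable {M : Type u} [AddCommGroup M] [Module k M]

/-- a subcomodule is a stable subspace of the associated rational module. -/
theorem isStable_of_isSubcomod (c : HopfRep.Comod k A M) (W : Submodule k M)
    (hW : @HopfRep.IsSubcomod k A _ _ _ _ M _ _ c W) :
    (gmodOn e c).IsStable (𝟙 G) W := by
  intro B _ _ h w hw
  obtain ⟨x, rfl⟩ := exists_yV e h
  rw [Category.comp_id, gmodOn_yV_one_tmul]
  obtain ⟨t, ht⟩ := hW w hw
  rw [← ht]
  clear ht
  refine ⟨TensorProduct.comm k W B (LinearMap.lTensor W x.toLinearMap t), ?_⟩
  induction t using TensorProduct.induction_on with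
  | zero => simp
  | tmul a b => simp
  | add a b ha hb => simp only [map_add, ha, hb]

end

end Groth.Agent.Lib.Helper84.Obs
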